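import Mathlib

/-!
Square matrices of size 248 over the integers modulo three packed into one natural number in
fields of ten bits; a product is 248 big multiplications and one reduction.
-/

set_option autoImplicit false

namespace H62
namespace Th

/-- the number with the given first `n` digits to base `2 ^ 10` -/
def pk : ℕ → (ℕ → ℕ) → ℕ
  | 0, _ => 0
  | n + 1, f => f 0 + 2 ^ 10 * pk n fun k => f (k + 1)

theorem pk_congr : ∀ (n : ℕ) {f g : ℕ → ℕ}, (∀ k < n, f k = g k) → pk n f = pk n g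
  | 0, _, _, _ => rfl
  | n + 1, _, _, h => by
    rw [pk, pk, h 0 (by omega), pk_congr n fun k hk => h (k + 1) (by omega)]

theorem pk_lt : ∀ (n : ℕ) {f : ℕ → ℕ}, (∀ k < n, f k < 2 ^ 10) → pk n f < 2 ^ (10 * n)
  | 0, _, _ => by rw [pk]; exact Nat.two_pow_pos _
  | n + 1, f, h => by
    have h1 := pk_lt n (f := fun k => f (k + 1)) fun k hk => h (k + 1) (by omega)
    have h0 := h 0 (by omega)
    rw [pk, Nat.mul_add, mul_one, add_comm (10 * n), pow_add]
    calc f 0 + 2 ^ 10 * pk n (fun k => f (k + 1))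
        < 2 ^ 10 * (pk n (fun k => f (k + 1)) + 1) := by rw [Nat.mul_add]; omega
      _ ≤ 2 ^ 10 * 2 ^ (10 * n) := Nat.mul_le_mul_left _ h1

theorem pk_append : ∀ (a b : ℕ) (f : ℕ → ℕ),
    pk (a + b) f = pk a f + 2 ^ (10 * a) * pk b fun k => f (a + k)
  | 0, b, f => by simp [pk]
  | a + 1, b, f => by
    rw [Nat.add_right_comm, pk, pk, pk_append a b, show 10 * (a + 1) = 10 + 10 * a by ring, pow_add,
      Nat.mul_add, pk_congr b (f := fun k => f (a + k + 1)) (g := fun k => f (a + 1 + k))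
        fun k _ => by rw [Nat.add_right_comm]]
    ring

theorem pk_add : ∀ (n : ℕ) (f g : ℕ → ℕ), pk n (fun k => f k + g k) = pk n f + pk n g
  | 0, _, _ => rfl
  | n + 1, f, g => by rw [pk, pk, pk, pk_add n]; ring

theorem pk_mul : ∀ (n c : ℕ) (f : ℕ → ℕ), pk n (fun k => c * f k) = c * pk n f
  | 0, _, _ => rfl
  | n + 1, c, f => by rw [pk, pk, pk_mul n]; ring

theorem pk_zero : ∀ n : ℕ, pk n (fun _ => 0) = 0
  | 0 => rfl
  | n + 1 => by rw [pk, pk_zero n, mul_zero, zero_add]

theorem pk_inj : ∀ (n : ℕ) {f g : ℕ → ℕ}, (∀ k < n, f k < 2 ^ 10) → (∀ k < n, g k < 2 ^ 10) →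
    pk n f = pk n g → ∀ k < n, f k = g k
  | 0, _, _, _, _, _ => fun k hk => absurd hk (by omega)
  | n + 1, f, g, hf, hg, h => by
    have h0 := hf 0 (by omega)
    have h0' := hg 0 (by omega)
    rw [pk, pk] at h
    have e0 : f 0 = g 0 := by omega
    have e1 := pk_inj n (f := fun k => f (k + 1)) (g := fun k => g (k + 1))
      (fun k hk => hf (k + 1) (by omega)) (fun k hk => hg (k + 1) (by omega))
      (Nat.eq_of_mul_eq_mul_left (Nat.two_pow_pos 10) (by omega))
    intro k hk
    match k with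
    | 0 => exact e0
    | k + 1 => exact e1 k (by omega)

theorem pk_sub (n : ℕ) {f g : ℕ → ℕ} (h : ∀ k < n, g k ≤ f k) :
    pk n f - pk n g = pk n fun k => f k - g k := by
  rw [← pk_congr n (f := fun k => g k + (f k - g k)) (g := f)
    (fun k hk => Nat.add_sub_cancel' (h k hk)), pk_add, Nat.add_sub_cancel_left]

theorem pk_and : ∀ (n : ℕ) {f g : ℕ → ℕ}, (∀ k < n, f k < 2 ^ 10) → (∀ k < n, g k < 2 ^ 10) →
    pk n f &&& pk n g = pk n fun k => f k &&& g k
  | 0, _, _, _, _ => by simp [pk]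
  | n + 1, f, g, hf, hg => by
    have f0 := hf 0 (by omega)
    have g0 := hg 0 (by omega)
    have ih := pk_and n (f := fun k => f (k + 1)) (g := fun k => g (k + 1))
      (fun k hk => hf (k + 1) (by omega)) (fun k hk => hg (k + 1) (by omega))
    rw [pk, pk, pk, ← ih]
    set a := f 0
    set b := g 0
    set X := pk n fun k => f (k + 1)
    set Y := pk n fun k => g (k + 1)
    conv_lhs => rw [← Nat.mod_add_div ((a + 2 ^ 10 * X) &&& (b + 2 ^ 10 * Y)) (2 ^ 10)]
    rw [Nat.and_mod_two_pow, Nat.and_div_two_pow, Nat.add_mul_mod_self_left, Nat.add_mul_mod_self_left,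
      Nat.mod_eq_of_lt f0, Nat.mod_eq_of_lt g0, Nat.add_mul_div_left _ _ (Nat.two_pow_pos 10),
      Nat.add_mul_div_left _ _ (Nat.two_pow_pos 10), Nat.div_eq_of_lt f0, Nat.div_eq_of_lt g0,
      zero_add, zero_add]

theorem pk_shift_digits {n j : ℕ} (hj : j ≤ n) {f : ℕ → ℕ} (hf : ∀ k < n, f k < 2 ^ 10) :
    pk n f >>> (10 * j) = pk (n - j) fun k => f (j + k) := by
  conv_lhs => rw [show n = j + (n - j) by omega]
  rw [pk_append, Nat.shiftRight_eq_div_pow, Nat.add_mul_div_left _ _ (Nat.two_pow_pos _),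
    Nat.div_eq_of_lt (pk_lt _ fun k hk => hf k (by omega)), zero_add]

/-- all `n` digits equal to `m` -/
def rep (n m : ℕ) : ℕ := m * ((2 ^ (10 * n) - 1) / (2 ^ 10 - 1))

theorem rep_eq (n m : ℕ) : rep n m = pk n fun _ => m := by
  have h : ∀ n, pk n (fun _ => 1) * (2 ^ 10 - 1) + 1 = 2 ^ (10 * n) := by
    intro n
    induction n with
    | zero => rfl
    | succ n ih =>
      rw [pk, Nat.mul_add 10, mul_one, pow_add, ← ih]
      ring_nf
  rw [rep, ← h n, Nat.add_sub_cancel, Nat.mul_div_cancel _ (by norm_num), ← pk_mul]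
  simp

theorem pk_shift_and {s m : ℕ} (hs : s ≤ 10) (hm : m < 2 ^ (10 - s)) :
    ∀ (n : ℕ) {d : ℕ → ℕ}, (∀ k < n, d k < 2 ^ 10) →
      (pk n d >>> s) &&& pk n (fun _ => m) = pk n fun k => (d k / 2 ^ s) &&& m
  | 0, _, _ => by simp [pk]
  | n + 1, d, hd => by
    have ih := pk_shift_and hs hm n (d := fun k => d (k + 1)) fun k hk => hd (k + 1) (by omega)
    have hd0 := hd 0 (by omega)
    rw [Nat.shiftRight_eq_div_pow] at ih ⊢
    rw [pk, pk, pk]
    set a := d 0
    set b := pk n fun k => d (k + 1)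
    set M := pk n fun _ => m
    rw [← ih]
    have e10 : (2 : ℕ) ^ 10 = 2 ^ s * 2 ^ (10 - s) := by rw [← pow_add]; congr 1; omega
    have hlt : a / 2 ^ s < 2 ^ (10 - s) :=
      Nat.div_lt_of_lt_mul (by rw [← e10]; exact hd0)
    have hm10 : m < 2 ^ 10 := lt_of_lt_of_le hm (Nat.pow_le_pow_right (by norm_num) (by omega))
    set u := (a + 2 ^ 10 * b) / 2 ^ s with hu
    set v := m + 2 ^ 10 * M with hv
    have hu' : u = a / 2 ^ s + 2 ^ (10 - s) * b := by
      rw [hu, e10, mul_assoc, Nat.add_mul_div_left _ _ (Nat.two_pow_pos s)]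
    have hlow : u % 2 ^ 10 % 2 ^ (10 - s) = a / 2 ^ s := by
      rw [Nat.mod_mod_of_dvd _ (Nat.pow_dvd_pow 2 (by omega)), hu', Nat.add_mul_mod_self_left,
        Nat.mod_eq_of_lt hlt]
    have hhigh : u / 2 ^ 10 = b / 2 ^ s := by
      rw [hu, Nat.div_div_eq_div_mul, mul_comm (2 ^ s) (2 ^ 10), ← Nat.div_div_eq_div_mul,
        Nat.add_mul_div_left _ _ (Nat.two_pow_pos 10), Nat.div_eq_of_lt hd0, zero_add]
    have hand : ∀ x, x &&& m = (x % 2 ^ (10 - s)) &&& m := fun x => by
      rw [← Nat.mod_eq_of_lt (lt_of_le_of_lt (Nat.and_le_right : x &&& m ≤ m) hm),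
        Nat.and_mod_two_pow, Nat.mod_eq_of_lt hm]
    conv_lhs => rw [← Nat.mod_add_div (u &&& v) (2 ^ 10)]
    rw [Nat.and_mod_two_pow, Nat.and_div_two_pow, hhigh, hv, Nat.add_mul_mod_self_left,
      Nat.add_mul_div_left _ _ (Nat.two_pow_pos 10), Nat.mod_eq_of_lt hm10, Nat.div_eq_of_lt hm10,
      zero_add, hand, hlow]

theorem pk_single : ∀ (n c : ℕ), pk (n + 1) (fun k => if k = 0 then c else 0) = c := fun n c => by
  rw [pk, pk_congr n (g := fun _ => 0) fun k _ => if_neg (Nat.succ_ne_zero k), pk_zero, mul_zero,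
    add_zero, if_pos rfl]

/-- a spread column times a row is an outer product -/
theorem pk_outer (h r : ℕ → ℕ) : ∀ m : ℕ,
    pk (248 * m) (fun l => if l % 248 = 0 then h (l / 248) else 0) * pk 248 r =
      pk (248 * m) fun l => h (l / 248) * r (l % 248) := by
  intro m
  induction m with
  | zero =>
    rw [Nat.mul_zero]
    show (0 : ℕ) * _ = 0
    exact Nat.zero_mul _
  | succ m ih =>
    have e1 : ∀ k, k < 248 → (248 * m + k) % 248 = k ∧ (248 * m + k) / 248 = m := fun k hk => by omega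
    rw [Nat.mul_add, mul_one, pk_append, pk_append, add_mul, ih, mul_assoc]
    refine congrArg (pk (248 * m) (fun l => h (l / 248) * r (l % 248)) + 2 ^ (10 * (248 * m)) * ·) ?_
    have hs : pk 248 (fun k => if (248 * m + k) % 248 = 0 then h ((248 * m + k) / 248) else 0) =
        h m := by
      rw [pk_congr 248 (g := fun k => if k = 0 then h m else 0) fun k hk => ?_]
      · exact pk_single 247 (h m)
      · rw [(e1 k hk).1, (e1 k hk).2]
    rw [hs, ← pk_mul]
    exact pk_congr _ fun k hk => by rw [(e1 k hk).1, (e1 k hk).2]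

end Th
end H62

namespace H62
namespace Th

/-- rows into one number -/
def asm : List ℕ → ℕ
  | [] => 0
  | r :: l => r + (asm l <<< 2480)

/-- a field of a packed number -/
def dig (Y k : ℕ) : ℕ := Y / 2 ^ (10 * k) % 2 ^ 10

theorem pk_dig : ∀ (n : ℕ) {Y : ℕ}, Y < 2 ^ (10 * n) → pk n (dig Y) = Y
  | 0, Y, h => by simp at h; simp [pk, h]
  | n + 1, Y, h => by
    rw [pk, pk_congr n (g := dig (Y / 2 ^ 10)) fun k _ => by
      rw [dig, dig, Nat.div_div_eq_div_mul, ← pow_add, show 10 + 10 * k = 10 * (k + 1) by ring],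
      pk_dig n (Nat.div_lt_of_lt_mul (by rwa [← pow_add, show 10 + 10 * n = 10 * (n + 1) by ring]))]
    rw [dig, Nat.mul_zero, pow_zero, Nat.div_one]
    exact Nat.mod_add_div Y (2 ^ 10)

theorem dig_lt (Y k : ℕ) : dig Y k < 2 ^ 10 := Nat.mod_lt _ (Nat.two_pow_pos _)

theorem asm_eq : ∀ (m : ℕ) (g : ℕ → ℕ → ℕ),
    asm ((List.range m).map fun i => pk 248 (g i)) = pk (248 * m) fun k => g (k / 248) (k % 248) := by
  intro m
  induction m with
  | zero => intro g; rw [Nat.mul_zero]; rfl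
  | succ m ih =>
    intro g
    rw [List.range_succ_eq_map, List.map_cons, List.map_map]
    show pk 248 (g 0) + (asm _ <<< 2480) = _
    rw [
      show ((fun i => pk 248 (g i)) ∘ Nat.succ) = fun i => pk 248 (g (i + 1)) from rfl,
      ih fun i => g (i + 1), Nat.shiftLeft_eq, show 248 * (m + 1) = 248 + 248 * m by ring,
      pk_append, show (2480 : ℕ) = 10 * 248 from rfl, mul_comm (pk (248 * m) _),
      pk_congr 248 (f := g 0) (g := fun k => g (k / 248) (k % 248)) fun k hk => by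
        rw [Nat.div_eq_of_lt hk, Nat.mod_eq_of_lt hk]]
    exact congrArg (pk 248 (fun k => g (k / 248) (k % 248)) + 2 ^ (10 * 248) * ·)
      (pk_congr _ fun k _ => by rw [Nat.add_div_left _ (by norm_num), Nat.add_mod_left])

theorem pk_unit : ∀ (n i : ℕ), i < n → pk n (fun k => if k = i then 1 else 0) = 1 <<< (10 * i) := by
  intro n
  induction n with
  | zero => intro i hi; omega
  | succ n ih =>
    intro i hi
    match i with
    | 0 => rw [pk_single, Nat.mul_zero, Nat.shiftLeft_zero]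
    | i + 1 =>
      rw [pk, if_neg (by omega),
        pk_congr n (g := fun k => if k = i then 1 else 0) fun k _ => by simp [Nat.add_right_cancel_iff],
        ih i (by omega), Nat.shiftLeft_eq, Nat.shiftLeft_eq, Nat.mul_add, mul_one (10 : ℕ),
        pow_add, one_mul, one_mul, zero_add]
      exact mul_comm _ _

end Th
end H62
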