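import Mathlib
import Cfsg.Agent.H62.Th.Pack

/-!
The kernel product of packed matrices of size 248 modulo three, and the matrices they stand for.
-/

set_option autoImplicit false

namespace H62
namespace Th

/-- square matrices of size 248 over the integers modulo three -/
abbrev Mat : Type := Matrix (Fin 248) (Fin 248) (ZMod 3)

/-- evaluate `k` at the value of `x` -/
noncomputable def fz {α : Type} (x : ℕ) (k : ℕ → α) : α :=
  Nat.rec (motive := fun _ => α) (k 0) (fun m _ => k (m + 1)) x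

theorem fz_eq {α : Type} (x : ℕ) (k : ℕ → α) : fz x k = k x := by cases x <;> rfl

/-- the mask of a first column -/
def colMask : ℕ := 1023 * ((2 ^ 615040 - 1) / (2 ^ 2480 - 1))

/-- the mask of one row -/
def rowMask : ℕ := 2 ^ 2480 - 1

/-- sum of the outer products of columns of `a` and rows of `b` -/
noncomputable def acc (cm rm n : ℕ) : ℕ → ℕ → ℕ → ℕ :=
  Nat.rec (motive := fun _ => ℕ → ℕ → ℕ → ℕ) (fun _ _ s => s)
    (fun _ ih a b s => fz (Nat.add s (Nat.mul (Nat.land a cm) (Nat.land b rm))) fun s' =>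
      fz (Nat.shiftRight a 10) fun a' => fz (Nat.shiftRight b 2480) fun b' => ih a' b' s') n

/-- one step of the reduction modulo three -/
noncomputable def fold (m3 hi x : ℕ) : ℕ := Nat.add (Nat.land x m3) (Nat.land (Nat.shiftRight x 2) hi)

/-- threes to zero -/
noncomputable def last (one x : ℕ) : ℕ :=
  Nat.sub x (Nat.mul 3 (Nat.land x (Nat.land (Nat.shiftRight x 1) one)))

/-- the reduction of every field -/
noncomputable def red (x : ℕ) : ℕ :=
  fz (rep 61504 3) fun m3 => fz (rep 61504 255) fun hi => fz (rep 61504 1) fun one =>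
    fz (fold m3 hi x) fun x => fz (fold m3 hi x) fun x => fz (fold m3 hi x) fun x =>
    fz (fold m3 hi x) fun x => fz (fold m3 hi x) fun x => fz (fold m3 hi x) fun x => last one x

/-- the product -/
noncomputable def mulC (A B : ℕ) : ℕ :=
  fz colMask fun cm => fz rowMask fun rm => fz (acc cm rm 248 A B 0) fun x => red x

/-- the packed number stands for the matrix -/
def Rep (Y : ℕ) (M : Mat) : Prop :=
  ∃ f : ℕ → ℕ, (∀ k, f k < 3) ∧ Y = pk 61504 f ∧
    ∀ i j : Fin 248, (f (248 * i.val + j.val) : ZMod 3) = M i j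

attribute [local irreducible] pk rep

theorem colMask_gen (m : ℕ) : 1023 * ((2 ^ (10 * (248 * m)) - 1) / (2 ^ 2480 - 1)) =
    pk (248 * m) fun l => if l % 248 = 0 then 1023 else 0 := by
  have key : ∀ m, pk (248 * m) (fun l => if l % 248 = 0 then 1 else 0) * (2 ^ 2480 - 1) + 1 =
      2 ^ (10 * (248 * m)) := by
    intro m
    induction m with
    | zero => rw [Nat.mul_zero]; unfold pk; simp
    | succ m ih =>
      rw [show 248 * (m + 1) = 248 + 248 * m by ring, pk_append,
        pk_congr (248 * m) (g := fun l => if l % 248 = 0 then 1 else 0)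
          (fun k _ => by rw [Nat.add_mod_left]),
        pk_congr 248 (g := fun k => if k = 0 then 1 else 0) (fun k hk => by rw [Nat.mod_eq_of_lt hk]),
        pk_single 247 1, Nat.mul_add 10, pow_add, ← ih, show (10 * 248 : ℕ) = 2480 from rfl]
      have h1 : 1 ≤ 2 ^ 2480 := Nat.one_le_two_pow
      generalize 2 ^ 2480 = N at h1 ⊢
      obtain ⟨N, rfl⟩ : ∃ k, N = k + 1 := ⟨N - 1, by omega⟩
      rw [Nat.add_sub_cancel]
      ring
  rw [pk_congr (248 * m) (f := fun l => if l % 248 = 0 then 1023 else 0)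
    (g := fun l => 1023 * if l % 248 = 0 then 1 else 0) (fun k _ => by split <;> simp), pk_mul,
    ← key m, Nat.add_sub_cancel,
    Nat.mul_div_cancel _ (Nat.sub_pos_of_lt (Nat.one_lt_two_pow (by norm_num : (2480 : ℕ) ≠ 0)))]

theorem colMask_eq : colMask = pk (248 * 248) fun l => if l % 248 = 0 then 1023 else 0 := by
  have e : (615040 : ℕ) = 10 * (248 * 248) := by norm_num
  rw [← colMask_gen, colMask, e]

theorem rowMask_eq : rowMask = pk 248 fun _ => 1023 := by
  rw [← rep_eq, rowMask]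
  unfold rep
  decide +kernel

/-- a column spread over the fields -/
theorem col_eq {f : ℕ → ℕ} (hf : ∀ k, f k < 3) {k : ℕ} (hk : k < 248) :
    (pk 61504 f >>> (10 * k)) &&& colMask =
      pk (248 * 248) fun l => if l % 248 = 0 then f (248 * (l / 248) + k) else 0 := by
  have h3 : ∀ l, f l < 2 ^ 10 := fun l => lt_trans (hf l) (by norm_num)
  rw [pk_shift_digits (by omega) fun l _ => h3 l, colMask_eq]
  have hpad : pk (61504 - k) (fun l => f (k + l)) =
      pk (248 * 248) fun l => if l < 61504 - k then f (k + l) else 0 := by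
    rw [show 248 * 248 = (61504 - k) + k by omega, pk_append,
      pk_congr k (g := fun _ => 0) (fun j _ => if_neg (by omega)), pk_zero, mul_zero, add_zero]
    exact pk_congr _ fun l hl => (if_pos hl).symm
  rw [hpad, pk_and]
  · refine pk_congr _ fun l hl => ?_
    by_cases h : l % 248 = 0
    · rw [if_pos h, if_pos h, if_pos (by omega), show k + l = 248 * (l / 248) + k by omega,
        show (1023 : ℕ) = 2 ^ 10 - 1 from rfl, Nat.and_two_pow_sub_one_eq_mod, Nat.mod_eq_of_lt (h3 _)]
    · rw [if_neg h, if_neg h, Nat.and_zero]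
  · intro l _
    split
    · exact h3 _
    · norm_num
  · intro l _
    split <;> norm_num

/-- a row -/
theorem row_eq {f : ℕ → ℕ} (hf : ∀ k, f k < 3) {k : ℕ} (hk : k < 248) :
    (pk 61504 f >>> (2480 * k)) &&& rowMask = pk 248 fun j => f (248 * k + j) := by
  have h3 : ∀ l, f l < 2 ^ 10 := fun l => lt_trans (hf l) (by norm_num)
  rw [show 2480 * k = 10 * (248 * k) by ring, pk_shift_digits (by omega) fun l _ => h3 l, rowMask,
    Nat.and_two_pow_sub_one_eq_mod, show 61504 - 248 * k = 248 + (61504 - 248 * k - 248) by omega,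
    pk_append, show (2480 : ℕ) = 10 * 248 from rfl, Nat.add_mul_mod_self_left,
    Nat.mod_eq_of_lt (pk_lt _ fun j _ => h3 _)]

theorem acc_succ (cm rm n a b s : ℕ) : acc cm rm (n + 1) a b s =
    fz (Nat.add s (Nat.mul (Nat.land a cm) (Nat.land b rm))) fun s' =>
      fz (Nat.shiftRight a 10) fun a' => fz (Nat.shiftRight b 2480) fun b' => acc cm rm n a' b' s' :=
  rfl

theorem acc_eq {f g : ℕ → ℕ} (hf : ∀ k, f k < 3) (hg : ∀ k, g k < 3) :
    ∀ (n j : ℕ) (u : ℕ → ℕ), j + n = 248 →
      acc colMask rowMask n (pk 61504 f >>> (10 * j)) (pk 61504 g >>> (2480 * j)) (pk (248 * 248) u) =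
        pk (248 * 248) fun l => u l +
          ∑ k ∈ Finset.Ico j 248, f (248 * (l / 248) + k) * g (248 * k + l % 248) := by
  intro n
  induction n with
  | zero =>
    intro j u hj
    obtain rfl : j = 248 := by omega
    show pk (248 * 248) u = _
    exact pk_congr _ fun l _ => by rw [Finset.Ico_self, Finset.sum_empty, add_zero]
  | succ n ih =>
    intro j u hj
    rw [acc_succ]
    simp only [fz_eq]
    show acc colMask rowMask n ((pk 61504 f >>> (10 * j)) >>> 10) ((pk 61504 g >>> (2480 * j)) >>> 2480)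
      (pk (248 * 248) u + ((pk 61504 f >>> (10 * j)) &&& colMask) *
        ((pk 61504 g >>> (2480 * j)) &&& rowMask)) = _
    rw [col_eq hf (by omega), row_eq hg (by omega),
      pk_outer (fun i => f (248 * i + j)) (fun c => g (248 * j + c)) 248, ← pk_add,
      ← Nat.shiftRight_add, ← Nat.shiftRight_add, show 10 * j + 10 = 10 * (j + 1) by ring,
      show 2480 * j + 2480 = 2480 * (j + 1) by ring, ih (j + 1) _ (by omega)]
    refine pk_congr _ fun l _ => ?_
    rw [Finset.sum_eq_sum_Ico_succ_bot (show j < 248 by omega)]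
    ring

/-- one folding step on a field -/
def fd (d : ℕ) : ℕ := d % 4 + d / 4

theorem fold_eq {F : ℕ → ℕ} (hF : ∀ l, F l < 1024) :
    fold (rep 61504 3) (rep 61504 255) (pk 61504 F) = pk 61504 fun l => fd (F l) := by
  show (pk 61504 F &&& rep 61504 3) + ((pk 61504 F >>> 2) &&& rep 61504 255) = _
  rw [rep_eq, rep_eq, pk_and 61504 (fun l _ => hF l) (fun _ _ => by norm_num),
    pk_shift_and (by norm_num) (by norm_num) _ (fun l _ => hF l), ← pk_add]
  refine pk_congr _ fun l _ => ?_
  rw [fd, show (3 : ℕ) = 2 ^ 2 - 1 from rfl, Nat.and_two_pow_sub_one_eq_mod,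
    show (255 : ℕ) = 2 ^ 8 - 1 from rfl, Nat.and_two_pow_sub_one_eq_mod]
  have := hF l
  omega

theorem fd_mod (d : ℕ) : fd d % 3 = d % 3 := by unfold fd; omega

theorem last_eq {F : ℕ → ℕ} (hF : ∀ l, F l ≤ 3) :
    last (rep 61504 1) (pk 61504 F) = pk 61504 fun l => F l % 3 := by
  have hlt : ∀ l, F l < 2 ^ 10 := fun l => lt_of_le_of_lt (hF l) (by norm_num)
  show pk 61504 F - 3 * (pk 61504 F &&& ((pk 61504 F >>> 1) &&& rep 61504 1)) = _
  rw [rep_eq, pk_shift_and (by norm_num) (by norm_num) _ (fun l _ => hlt l),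
    pk_and 61504 (fun l _ => hlt l) (fun l _ => lt_of_le_of_lt Nat.and_le_right (by norm_num)),
    ← pk_mul, pk_sub]
  · refine pk_congr _ fun l _ => ?_
    have h := hF l
    have h4 : ∀ d ≤ 3, d - 3 * (d &&& (d / 2 ^ 1 &&& 1)) = d % 3 := by decide
    exact h4 _ h
  · intro l _
    have h4 : ∀ d ≤ 3, 3 * (d &&& (d / 2 ^ 1 &&& 1)) ≤ d := by decide
    exact h4 _ (hF l)

theorem fd_bound (d : ℕ) (h : d ≤ 992) : fd (fd (fd (fd (fd (fd d))))) ≤ 3 := by
  have h1 : fd d ≤ 251 := by unfold fd; omega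
  have h2 : fd (fd d) ≤ 65 := by unfold fd at *; omega
  generalize fd (fd d) = x at h2 ⊢
  have h3 : fd x ≤ 19 := by unfold fd; omega
  generalize fd x = y at h3 ⊢
  have h5 : ∀ y ≤ 19, fd (fd (fd y)) ≤ 3 := by decide
  exact h5 y h3

theorem red_eq {F : ℕ → ℕ} (hF : ∀ l, F l ≤ 992) :
    red (pk 61504 F) = pk 61504 fun l => F l % 3 := by
  have le : ∀ d, d < 1024 → fd d < 1024 := fun d h => by unfold fd; omega
  have b0 : ∀ l, F l < 1024 := fun l => lt_of_le_of_lt (hF l) (by norm_num)
  have b1 := fun l => le _ (b0 l)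
  have b2 := fun l => le _ (b1 l)
  have b3 := fun l => le _ (b2 l)
  have b4 := fun l => le _ (b3 l)
  have b5 := fun l => le _ (b4 l)
  simp only [red, fz_eq]
  rw [fold_eq b0, fold_eq b1, fold_eq b2, fold_eq b3, fold_eq b4, fold_eq b5,
    last_eq fun l => fd_bound _ (hF l)]
  exact pk_congr _ fun l _ => by simp only [fd_mod]

theorem mul_rep {A B : ℕ} {M N : Mat} (hA : Rep A M) (hB : Rep B N) : Rep (mulC A B) (M * N) := by
  obtain ⟨f, hf, rfl, hM⟩ := hA
  obtain ⟨g, hg, rfl, hN⟩ := hB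
  let F : ℕ → ℕ := fun l => ∑ k ∈ Finset.Ico 0 248, f (248 * (l / 248) + k) * g (248 * k + l % 248)
  have hF : ∀ l, F l ≤ 992 := by
    intro l
    refine le_trans (Finset.sum_le_card_nsmul _ _ 4 fun k _ => ?_) (by simp)
    calc f _ * g _ ≤ 2 * 2 := Nat.mul_le_mul (Nat.lt_succ_iff.mp (hf _)) (Nat.lt_succ_iff.mp (hg _))
      _ = 4 := rfl
  refine ⟨fun l => F l % 3, fun l => Nat.mod_lt _ (by norm_num), ?_, fun i j => ?_⟩
  · have h := acc_eq hf hg 248 0 (fun _ => 0) (by norm_num)
    simp only [Nat.mul_zero, Nat.shiftRight_zero, pk_zero] at h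
    rw [
      pk_congr (248 * 248) (g := F) (fun l _ => Nat.zero_add _),
      show (248 * 248 : ℕ) = 61504 from rfl] at h
    simp only [mulC, fz_eq, h]
    exact red_eq hF
  · rw [ZMod.natCast_mod, Matrix.mul_apply]
    show ((∑ k ∈ Finset.Ico 0 248, _ : ℕ) : ZMod 3) = _
    rw [show (248 * i.val + j.val) / 248 = i.val by omega,
      show (248 * i.val + j.val) % 248 = j.val by omega, ← Finset.range_eq_Ico,
      ← Fin.sum_univ_eq_sum_range (fun k => f (248 * i.val + k) * g (248 * k + j.val)) 248]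
    push_cast
    exact Finset.sum_congr rfl fun k _ => by rw [hM i k, hN k j]

theorem rep_unique {Y : ℕ} {M N : Mat} (hM : Rep Y M) (hN : Rep Y N) : M = N := by
  obtain ⟨f, hf, rfl, hM⟩ := hM
  obtain ⟨g, hg, e, hN⟩ := hN
  have h := pk_inj 61504 (fun k _ => lt_trans (hf k) (by norm_num))
    (fun k _ => lt_trans (hg k) (by norm_num)) e
  ext i j
  rw [← hM, ← hN, h _ (by omega)]

theorem rep_code_unique {Y Z : ℕ} {M : Mat} (hY : Rep Y M) (hZ : Rep Z M) : Y = Z := by
  obtain ⟨f, hf, rfl, hM⟩ := hY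
  obtain ⟨g, hg, rfl, hN⟩ := hZ
  refine pk_congr _ fun k hk => ?_
  have hi : k / 248 < 248 := by omega
  have hj : k % 248 < 248 := by omega
  have h1 := hM ⟨k / 248, hi⟩ ⟨k % 248, hj⟩
  have h2 := hN ⟨k / 248, hi⟩ ⟨k % 248, hj⟩
  rw [← h2] at h1
  rw [show 248 * (k / 248) + k % 248 = k by omega] at h1
  have := congrArg ZMod.val h1
  rwa [ZMod.val_natCast_of_lt (hf k), ZMod.val_natCast_of_lt (hg k)] at this

end Th
end H62
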