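import Mathlib
import Cfsg.Agent.H62.Th.Mul

/-!
Matrices from packed codes, and products along words.
-/

set_option autoImplicit false

namespace H62
namespace Th

attribute [local irreducible] pk rep

/-- the fields are below three -/
noncomputable def okCode (Y : ℕ) : Bool :=
  Nat.blt Y (2 ^ 615040) && (Nat.beq (Nat.land Y (rep 61504 3)) Y &&
    Nat.beq (Nat.land Y (Nat.land (Nat.shiftRight Y 1) (rep 61504 1))) 0)

/-- the matrix of a code -/
def matOf (Y : ℕ) : Mat := Matrix.of fun i j => (dig Y (248 * i.val + j.val) : ZMod 3)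

theorem dig_ok {Y : ℕ} (h : okCode Y = true) {k : ℕ} (hk : k < 61504) : dig Y k < 3 := by
  simp only [okCode, Bool.and_eq_true, Nat.beq_eq] at h
  obtain ⟨h0, h1, h2⟩ := h
  have hlt : Y < 2 ^ (10 * 61504) := by
    rw [show 10 * 61504 = 615040 by norm_num]
    exact Nat.le_of_ble_eq_true h0
  have e1 : pk 61504 (fun l => dig Y l &&& 3) = pk 61504 (dig Y) := by
    rw [← pk_and 61504 (fun l _ => dig_lt Y l) (fun _ _ => by norm_num), ← rep_eq, pk_dig _ hlt]
    exact h1
  have e2 : pk 61504 (fun l => dig Y l &&& (dig Y l / 2 ^ 1 &&& 1)) = pk 61504 fun _ => 0 := by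
    rw [← pk_and 61504 (fun l _ => dig_lt Y l)
      (fun l _ => lt_of_le_of_lt Nat.and_le_right (by norm_num)),
      ← pk_shift_and (by norm_num) (by norm_num) _ (fun l _ => dig_lt Y l), ← rep_eq, pk_dig _ hlt,
      pk_zero]
    exact h2
  have a1 := pk_inj 61504 (fun l _ => lt_of_le_of_lt Nat.and_le_right (by norm_num))
    (fun l _ => dig_lt Y l) e1 k hk
  have a2 := pk_inj 61504 (fun l _ => lt_of_le_of_lt Nat.and_le_left (dig_lt Y l))
    (fun _ _ => by norm_num) e2 k hk
  have h4 : dig Y k ≤ 3 := by rw [← a1]; exact Nat.and_le_right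
  generalize dig Y k = d at a2 h4 ⊢
  have : ∀ d ≤ 3, d &&& (d / 2 ^ 1 &&& 1) = 0 → d < 3 := by decide
  exact this d h4 a2

theorem rep_matOf {Y : ℕ} (h : okCode Y = true) : Rep Y (matOf Y) := by
  have h0 : Y < 2 ^ (10 * 61504) := by
    have h' := h
    simp only [okCode, Bool.and_eq_true] at h'
    rw [show 10 * 61504 = 615040 by norm_num]
    exact Nat.le_of_ble_eq_true h'.1
  refine ⟨fun l => if l < 61504 then dig Y l else 0, fun l => ?_, ?_, fun i j => ?_⟩
  · dsimp only
    split
    · exact dig_ok h ‹_›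
    · norm_num
  · conv_lhs => rw [← pk_dig _ h0]
    exact pk_congr _ fun l hl => (if_pos hl).symm
  · dsimp only
    rw [if_pos (by omega)]
    rfl

/-- the identity -/
def oneC : ℕ := asm ((List.range 248).map fun i => 1 <<< (10 * i))

theorem oneC_rep : Rep oneC 1 := by
  refine ⟨fun k => if k % 248 = k / 248 then 1 else 0, fun k => by dsimp only; split <;> norm_num,
    ?_, fun i j => ?_⟩
  · have e : (List.range 248).map (fun i => 1 <<< (10 * i)) =
        (List.range 248).map fun i => pk 248 fun k => if k = i then 1 else 0 :=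
      List.map_congr_left fun i hi => (pk_unit 248 i (List.mem_range.1 hi)).symm
    rw [oneC, e, asm_eq]
  · dsimp only
    rw [show (248 * i.val + j.val) / 248 = i.val by omega,
      show (248 * i.val + j.val) % 248 = j.val by omega, Matrix.one_apply]
    by_cases h : i = j
    · subst h; simp
    · rw [if_neg h, if_neg (fun e => h (Fin.ext e.symm)), Nat.cast_zero]

/-- multiply by the coded letters of a word from the right -/
noncomputable def runC (code : ℕ → ℕ) (w : List ℕ) : ℕ → ℕ :=
  List.rec (motive := fun _ => ℕ → ℕ) (fun c => c) (fun g _ ih c => fz (mulC c (code g)) ih) w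

theorem runC_rep {code : ℕ → ℕ} {m : ℕ → Mat} :
    ∀ (w : List ℕ) {c : ℕ} {M : Mat}, (∀ g ∈ w, Rep (code g) (m g)) → Rep c M →
      Rep (runC code w c) (M * (w.map m).prod)
  | [], c, M, _, hM => by simpa [runC] using hM
  | g :: w, c, M, hw, hM => by
    show Rep (fz (mulC c (code g)) (runC code w)) _
    rw [fz_eq, List.map_cons, List.prod_cons, ← mul_assoc]
    exact runC_rep w (fun a ha => hw a (List.mem_cons_of_mem _ ha)) (mul_rep hM (hw g List.mem_cons_self))

/-- two words give the same matrix -/
noncomputable def sameC (code : ℕ → ℕ) (u v : List ℕ) : Bool :=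
  fz oneC fun o => fz (runC code u o) fun a => fz (runC code v o) fun b => Nat.beq a b

theorem sameC_spec {code : ℕ → ℕ} {m : ℕ → Mat} {u v : List ℕ} (h : sameC code u v = true)
    (hu : ∀ g ∈ u, Rep (code g) (m g)) (hv : ∀ g ∈ v, Rep (code g) (m g)) :
    (u.map m).prod = (v.map m).prod := by
  simp only [sameC, fz_eq, Nat.beq_eq] at h
  have a := runC_rep u hu oneC_rep
  have b := runC_rep v hv oneC_rep
  rw [one_mul] at a b
  rw [h] at a
  exact rep_unique a b

end Th
end H62
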