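import Mathlib
import Cfsg.Prelude.Def_Spor_Th
import Cfsg.Agent.H62.Th.Code
import Cfsg.Agent.H62.Th.GenA
import Cfsg.Agent.H62.Th.GenB
import Cfsg.Agent.H62.Th.GenC
import Cfsg.Agent.H62.Th.GenD
import Cfsg.Agent.H62.Th.GenE
import Cfsg.Agent.H62.Th.GenS
import Cfsg.Agent.H62.Th.GenT
import Cfsg.Agent.H62.Th.GenU

/-!
The eight generators of the presented Thompson group as packed matrices, and its relators as
positive words.
-/

set_option autoImplicit false

namespace H62
namespace Th

/-- the code of a letter a, b, c, d, e, s, t, u -/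
noncomputable def code : ℕ → ℕ
  | 0 => asm genA
  | 1 => asm genB
  | 2 => asm genC
  | 3 => asm genD
  | 4 => asm genE
  | 5 => asm genS
  | 6 => asm genT
  | _ => asm genU

/-- the number of a generator -/
def idx : Cfsg.Spor.Th.Gen → ℕ
  | .a => 0 | .b => 1 | .c => 2 | .d => 3 | .e => 4 | .s => 5 | .t => 6 | .u => 7

/-- the order of a generator -/
def ordOf : ℕ → ℕ
  | 5 => 7
  | 6 => 3
  | 7 => 4
  | _ => 2

/-- a signed generator as a positive word -/
def letWord (x : Cfsg.Spor.Th.Gen × Bool) : List ℕ :=
  cond x.2 [idx x.1] (List.replicate (ordOf (idx x.1) - 1) (idx x.1))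

/-- a relator as a positive word -/
def relWord (r : FreeGroup Cfsg.Spor.Th.Gen) : List ℕ := r.toWord.flatMap letWord

/-- the relators with numbers in a range act as the identity -/
noncomputable def checkRange (lo n : ℕ) : Bool :=
  ((Cfsg.Spor.Th.extra.drop lo).take n).all fun r => sameC code (relWord r) []

/-- the orders of the generators and the ranges of the fields -/
noncomputable def checkGen (g : ℕ) : Bool :=
  fz (code g) fun y => okCode y && sameC code (List.replicate (ordOf g) g) []

end Th
end H62
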