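import Mathlib
import Cfsg.Agent.H62.Th.Word

/-!
The eight matrices are codes of matrices of the right orders.
-/

set_option autoImplicit false
set_option maxRecDepth 100000

namespace H62
namespace Th

theorem genOK0 : checkGen 0 = true := by decide +kernel

theorem genOK1 : checkGen 1 = true := by decide +kernel

theorem genOK2 : checkGen 2 = true := by decide +kernel

theorem genOK3 : checkGen 3 = true := by decide +kernel

theorem genOK4 : checkGen 4 = true := by decide +kernel

theorem genOK5 : checkGen 5 = true := by decide +kernel

theorem genOK6 : checkGen 6 = true := by decide +kernel

theorem genOK7 : checkGen 7 = true := by decide +kernel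

end Th
end H62
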