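import Mathlib
import Cfsg.Agent.H62.Th.Code

/-!
Products of a block of rows with a matrix given by its list of rows: the intermediate numbers are
as small as the block.
-/

set_option autoImplicit false

namespace H62
namespace Th

attribute [local irreducible] pk rep

/-- sum of the outer products of columns of `a` and the listed rows -/
noncomputable def accL (cm : ℕ) (rows : List ℕ) : ℕ → ℕ → ℕ :=
  List.rec (motive := fun _ => ℕ → ℕ → ℕ) (fun _ s => s)
    (fun r _ ih a s => fz (Nat.add s (Nat.mul (Nat.land a cm) r)) fun s' =>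
      fz (Nat.shiftRight a 10) fun a' => ih a' s') rows

/-- the product with a list of rows -/
noncomputable def mulL (A : ℕ) (rows : List ℕ) : ℕ :=
  fz colMask fun cm => fz (accL cm rows A 0) fun x => red x

/-- the list of rows stands for the matrix -/
def RepL (rows : List ℕ) (M : Mat) : Prop :=
  ∃ f : ℕ → ℕ, (∀ k, f k < 3) ∧
    rows = (List.range' 0 248).map (fun k => pk 248 fun j => f (248 * k + j)) ∧
    ∀ i j : Fin 248, (f (248 * i.val + j.val) : ZMod 3) = M i j

theorem accL_eq {f g : ℕ → ℕ} (hf : ∀ k, f k < 3) :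
    ∀ (n j : ℕ) (u : ℕ → ℕ), j + n = 248 →
      accL colMask ((List.range' j n).map fun k => pk 248 fun c => g (248 * k + c))
          (pk 61504 f >>> (10 * j)) (pk (248 * 248) u) =
        pk (248 * 248) fun l => u l +
          ∑ k ∈ Finset.Ico j 248, f (248 * (l / 248) + k) * g (248 * k + l % 248) := by
  intro n
  induction n with
  | zero =>
    intro j u hj
    obtain rfl : j = 248 := by omega
    show pk (248 * 248) u = _
    exact pk_congr _ fun l _ => by rw [Finset.Ico_self, Finset.sum_empty, add_zero]
  | succ n ih =>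
    intro j u hj
    show fz (Nat.add (pk (248 * 248) u) (Nat.mul (Nat.land (pk 61504 f >>> (10 * j)) colMask)
      (pk 248 fun c => g (248 * j + c)))) (fun s' => fz (Nat.shiftRight (pk 61504 f >>> (10 * j)) 10)
        fun a' => accL colMask ((List.range' (j + 1) n).map fun k => pk 248 fun c => g (248 * k + c))
          a' s') = _
    simp only [fz_eq]
    show accL colMask _ ((pk 61504 f >>> (10 * j)) >>> 10)
      (pk (248 * 248) u + ((pk 61504 f >>> (10 * j)) &&& colMask) * pk 248 fun c => g (248 * j + c)) = _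
    rw [col_eq hf (by omega),
      pk_outer (fun i => f (248 * i + j)) (fun c => g (248 * j + c)) 248, ← pk_add,
      ← Nat.shiftRight_add, show 10 * j + 10 = 10 * (j + 1) by ring, ih (j + 1) _ (by omega)]
    refine pk_congr _ fun l _ => ?_
    rw [Finset.sum_eq_sum_Ico_succ_bot (show j < 248 by omega)]
    ring

theorem mulL_rep {A : ℕ} {rows : List ℕ} {M N : Mat} (hA : Rep A M) (hB : RepL rows N) :
    Rep (mulL A rows) (M * N) := by
  obtain ⟨f, hf, rfl, hM⟩ := hA
  obtain ⟨g, hg, rfl, hN⟩ := hB
  let F : ℕ → ℕ := fun l => ∑ k ∈ Finset.Ico 0 248, f (248 * (l / 248) + k) * g (248 * k + l % 248)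
  have hF : ∀ l, F l ≤ 992 := by
    intro l
    refine le_trans (Finset.sum_le_card_nsmul _ _ 4 fun k _ => ?_) (by simp)
    calc f _ * g _ ≤ 2 * 2 := Nat.mul_le_mul (Nat.lt_succ_iff.mp (hf _)) (Nat.lt_succ_iff.mp (hg _))
      _ = 4 := rfl
  refine ⟨fun l => F l % 3, fun l => Nat.mod_lt _ (by norm_num), ?_, fun i j => ?_⟩
  · have h := accL_eq (g := g) hf 248 0 (fun _ => 0) (by norm_num)
    simp only [Nat.mul_zero, Nat.shiftRight_zero, pk_zero] at h
    rw [pk_congr (248 * 248) (g := F) (fun l _ => Nat.zero_add _),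
      show (248 * 248 : ℕ) = 61504 from rfl] at h
    simp only [mulL, fz_eq, h]
    exact red_eq hF
  · rw [ZMod.natCast_mod, Matrix.mul_apply]
    show ((∑ k ∈ Finset.Ico 0 248, _ : ℕ) : ZMod 3) = _
    rw [show (248 * i.val + j.val) / 248 = i.val by omega,
      show (248 * i.val + j.val) % 248 = j.val by omega, ← Finset.range_eq_Ico,
      ← Fin.sum_univ_eq_sum_range (fun k => f (248 * i.val + k) * g (248 * k + j.val)) 248]
    push_cast
    exact Finset.sum_congr rfl fun k _ => by rw [hM i k, hN k j]

/-- the rows are 248 numbers of 248 fields -/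
def okRows (rows : List ℕ) : Bool :=
  Nat.beq rows.length 248 && rows.all fun r => Nat.blt r (2 ^ 2480)

theorem repL_of_check {rows : List ℕ} (h : okRows rows = true) (h3 : okCode (asm rows) = true) :
    RepL rows (matOf (asm rows)) := by
  obtain ⟨f, hf, hY, hM⟩ := rep_matOf h3
  refine ⟨f, hf, ?_, hM⟩
  simp only [okRows, Bool.and_eq_true, Nat.beq_eq, List.all_eq_true] at h
  obtain ⟨hlen, hrow⟩ := h
  have hrows : rows = (List.range 248).map fun i => pk 248 fun j => dig (rows.getD i 0) j := by
    refine List.ext_getElem (by simp [hlen]) fun i h1 h2 => ?_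
    simp only [List.getElem_map, List.getElem_range]
    rw [List.getD_eq_getElem _ _ h1]
    refine (pk_dig 248 ?_).symm
    have hh := hrow _ (List.getElem_mem h1)
    rw [show (10 : ℕ) * 248 = 2480 from rfl]
    generalize (2 : ℕ) ^ 2480 = N at hh ⊢
    exact Nat.le_of_ble_eq_true hh
  have e : pk (248 * 248) f = pk (248 * 248) fun k => dig (rows.getD (k / 248) 0) (k % 248) := by
    rw [← asm_eq 248 fun i j => dig (rows.getD i 0) j, ← hrows, show (248 * 248 : ℕ) = 61504 from rfl]
    exact hY.symm
  have hd := pk_inj (248 * 248) (fun k _ => lt_trans (hf k) (by norm_num))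
    (fun k _ => dig_lt _ _) e
  conv_lhs => rw [hrows, List.range_eq_range']
  refine List.map_congr_left fun i hi => pk_congr _ fun j hj => ?_
  rw [List.mem_range'_1] at hi
  rw [hd (248 * i + j) (by omega), show (248 * i + j) / 248 = i by omega,
    show (248 * i + j) % 248 = j by omega]

/-- the mask of a first column of 31 rows -/
def colMask31 : ℕ := 1023 * ((2 ^ 76880 - 1) / (2 ^ 2480 - 1))

theorem colMask31_eq : colMask % 2 ^ 76880 = colMask31 := by decide +kernel

/-- the product with a list of rows, quicker for a block of at most 31 rows -/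
noncomputable def mulS (A : ℕ) (rows : List ℕ) : ℕ :=
  cond (Nat.blt A (2 ^ 76880))
    (fz colMask31 fun cm => fz (accL cm rows A 0) fun x => red x) (mulL A rows)

theorem accL_mod (k cm : ℕ) : ∀ (rows : List ℕ) (a s : ℕ), a < 2 ^ k →
    accL (cm % 2 ^ k) rows a s = accL cm rows a s
  | [], _, _, _ => rfl
  | r :: rows, a, s, h => by
    show fz (Nat.add s (Nat.mul (Nat.land a (cm % 2 ^ k)) r)) (fun s' =>
        fz (Nat.shiftRight a 10) fun a' => accL (cm % 2 ^ k) rows a' s') =
      fz (Nat.add s (Nat.mul (Nat.land a cm) r)) (fun s' =>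
        fz (Nat.shiftRight a 10) fun a' => accL cm rows a' s')
    simp only [fz_eq]
    have e : Nat.land a (cm % 2 ^ k) = Nat.land a cm := by
      show a &&& (cm % 2 ^ k) = a &&& cm
      rw [← Nat.and_two_pow_sub_one_eq_mod cm k, ← Nat.and_assoc, Nat.and_two_pow_sub_one_eq_mod,
        Nat.mod_eq_of_lt (lt_of_le_of_lt Nat.and_le_left h)]
    rw [e]
    exact accL_mod k cm rows _ _ (lt_of_le_of_lt (Nat.shiftRight_le a 10) h)

theorem mulS_gen {k cm c : ℕ} (hc : cm % 2 ^ k = c) (A : ℕ) (rows : List ℕ) :
    cond (Nat.blt A (2 ^ k)) (fz c fun cm => fz (accL cm rows A 0) fun x => red x)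
      (fz cm fun cm => fz (accL cm rows A 0) fun x => red x) =
    fz cm fun cm => fz (accL cm rows A 0) fun x => red x := by
  cases h : Nat.blt A (2 ^ k)
  · rfl
  · simp only [cond_true, fz_eq]
    rw [← hc, accL_mod k cm rows A 0 (Nat.le_of_ble_eq_true h)]

theorem mulS_eq (A : ℕ) (rows : List ℕ) : mulS A rows = mulL A rows :=
  mulS_gen colMask31_eq A rows

/-- block `b` of the identity, its 31 rows moved to the top so that the number is small -/
def blockC (b : ℕ) : ℕ :=
  asm ((List.range 248).map fun i => if i < 31 then 1 <<< (10 * (31 * b + i)) else 0)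

/-- block `b` of the identity matrix, moved to the top -/
def blockM (b : ℕ) : Mat := Matrix.of fun i j => if i.val < 31 ∧ j.val = 31 * b + i.val then 1 else 0

theorem blockC_rep {b : ℕ} (hb : b < 8) : Rep (blockC b) (blockM b) := by
  refine ⟨fun k => if k / 248 < 31 ∧ k % 248 = 31 * b + k / 248 then 1 else 0,
    fun k => by dsimp only; split <;> norm_num, ?_, fun i j => ?_⟩
  · have e : (List.range 248).map (fun i => if i < 31 then 1 <<< (10 * (31 * b + i)) else 0) =
        (List.range 248).map fun i => pk 248 fun k => if i < 31 ∧ k = 31 * b + i then 1 else 0 :=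
      List.map_congr_left fun i _ => by
        by_cases h : i < 31
        · rw [if_pos h, ← pk_unit 248 (31 * b + i) (by omega)]
          exact pk_congr _ fun k _ => by simp [h]
        · rw [if_neg h, pk_congr 248 (g := fun _ => 0) fun k _ => if_neg fun hk => h hk.1, pk_zero]
    rw [blockC, e, asm_eq]
  · dsimp only
    rw [show (248 * i.val + j.val) / 248 = i.val by omega,
      show (248 * i.val + j.val) % 248 = j.val by omega, blockM, Matrix.of_apply]
    split <;> simp

theorem eq_of_blocks {M N : Mat} (h : ∀ b < 8, blockM b * M = blockM b * N) : M = N := by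
  ext i j
  have h1 := congrFun (congrFun (h (i.val / 31) (by omega)) ⟨i.val % 31, by omega⟩) j
  have key : ∀ X : Mat, (blockM (i.val / 31) * X) ⟨i.val % 31, by omega⟩ j = X i j := by
    intro X
    rw [Matrix.mul_apply, Finset.sum_eq_single i]
    · have : i.val = 31 * (i.val / 31) + i.val % 31 := (Nat.div_add_mod _ _).symm
      simp [blockM, ← this, Nat.mod_lt]
    · intro k _ hk
      have : k.val ≠ 31 * (i.val / 31) + i.val % 31 := by
        rw [Nat.div_add_mod]; exact fun e => hk (Fin.ext e)
      simp [blockM, this]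
    · intro h; exact absurd (Finset.mem_univ i) h
  rwa [key, key] at h1

/-- multiply by the listed letters of a word from the right -/
noncomputable def runL (rowsOf : ℕ → List ℕ) (w : List ℕ) : ℕ → ℕ :=
  List.rec (motive := fun _ => ℕ → ℕ) (fun c => c)
    (fun g _ ih c => fz (mulS c (rowsOf g)) ih) w

theorem runL_rep {rowsOf : ℕ → List ℕ} {m : ℕ → Mat} :
    ∀ (w : List ℕ) {c : ℕ} {M : Mat}, (∀ g ∈ w, RepL (rowsOf g) (m g)) → Rep c M →
      Rep (runL rowsOf w c) (M * (w.map m).prod)
  | [], c, M, _, hM => by simpa [runL] using hM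
  | g :: w, c, M, hw, hM => by
    show Rep (fz (mulS c (rowsOf g)) (runL rowsOf w)) _
    rw [fz_eq, mulS_eq, List.map_cons, List.prod_cons, ← mul_assoc]
    exact runL_rep w (fun a ha => hw a (List.mem_cons_of_mem _ ha))
      (mulL_rep hM (hw g List.mem_cons_self))

/-- on one block two words agree -/
noncomputable def sameB (rowsOf : ℕ → List ℕ) (b : ℕ) (u v : List ℕ) : Bool :=
  fz (blockC b) fun o => fz (runL rowsOf u o) fun x => fz (runL rowsOf v o) fun y => Nat.beq x y

theorem sameB_spec {rowsOf : ℕ → List ℕ} {m : ℕ → Mat} {u v : List ℕ}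
    (h : ∀ b < 8, sameB rowsOf b u v = true) (hu : ∀ g ∈ u, RepL (rowsOf g) (m g))
    (hv : ∀ g ∈ v, RepL (rowsOf g) (m g)) : (u.map m).prod = (v.map m).prod := by
  refine eq_of_blocks fun b hb => ?_
  have h1 := h b hb
  simp only [sameB, fz_eq, Nat.beq_eq] at h1
  have a := runL_rep u hu (blockC_rep hb)
  have c := runL_rep v hv (blockC_rep hb)
  rw [h1] at a
  exact rep_unique a c

end Th
end H62
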