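import Mathlib
import Cfsg.Agent.H62.Th.MulRows
import Cfsg.Agent.H62.Th.Word

/-!
The generators as lists of rows, and the check of a range of relators on one block of rows.
-/

set_option autoImplicit false

namespace H62
namespace Th

/-- the rows of a letter -/
noncomputable def rows : ℕ → List ℕ
  | 0 => genA
  | 1 => genB
  | 2 => genC
  | 3 => genD
  | 4 => genE
  | 5 => genS
  | 6 => genT
  | _ => genU

theorem asm_rows : ∀ g, asm (rows g) = code g
  | 0 => rfl
  | 1 => rfl
  | 2 => rfl
  | 3 => rfl
  | 4 => rfl
  | 5 => rfl
  | 6 => rfl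
  | _ + 7 => rfl

/-- a relator acts as the identity on a block of rows -/
noncomputable def checkRel (i b : ℕ) : Bool :=
  sameB rows b (relWord (Cfsg.Spor.Th.extra.getD i 1)) []

end Th
end H62
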