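import Mathlib
import Cfsg.Agent.H62.Th.Rows

/-!
Relators act as the identity on blocks of rows: part 0 of 8, checked by the kernel.
-/

set_option autoImplicit false
set_option Elab.async false
set_option maxRecDepth 100000

namespace H62
namespace Th

theorem rel_0_7 : checkRel 0 7 = true := by decide +kernel

theorem rel_1_7 : checkRel 1 7 = true := by decide +kernel

theorem rel_2_7 : checkRel 2 7 = true := by decide +kernel

theorem rel_3_7 : checkRel 3 7 = true := by decide +kernel

theorem rel_4_7 : checkRel 4 7 = true := by decide +kernel

theorem rel_5_7 : checkRel 5 7 = true := by decide +kernel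

theorem rel_6_7 : checkRel 6 7 = true := by decide +kernel

theorem rel_7_7 : checkRel 7 7 = true := by decide +kernel

theorem rel_8_7 : checkRel 8 7 = true := by decide +kernel

theorem rel_9_7 : checkRel 9 7 = true := by decide +kernel

theorem rel_10_7 : checkRel 10 7 = true := by decide +kernel

theorem rel_11_7 : checkRel 11 7 = true := by decide +kernel

theorem rel_12_7 : checkRel 12 7 = true := by decide +kernel

theorem rel_13_7 : checkRel 13 7 = true := by decide +kernel

theorem rel_14_7 : checkRel 14 7 = true := by decide +kernel

theorem rel_15_7 : checkRel 15 7 = true := by decide +kernel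

theorem rel_16_7 : checkRel 16 7 = true := by decide +kernel

theorem rel_17_7 : checkRel 17 7 = true := by decide +kernel

theorem rel_18_7 : checkRel 18 7 = true := by decide +kernel

theorem rel_19_7 : checkRel 19 7 = true := by decide +kernel

theorem rel_20_7 : checkRel 20 7 = true := by decide +kernel

theorem rel_21_7 : checkRel 21 7 = true := by decide +kernel

theorem rel_22_7 : checkRel 22 7 = true := by decide +kernel

theorem rel_23_7 : checkRel 23 7 = true := by decide +kernel

theorem rel_24_7 : checkRel 24 7 = true := by decide +kernel

theorem rel_25_7 : checkRel 25 7 = true := by decide +kernel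

theorem rel_26_7 : checkRel 26 7 = true := by decide +kernel

theorem rel_27_7 : checkRel 27 7 = true := by decide +kernel

theorem rel_28_7 : checkRel 28 7 = true := by decide +kernel

theorem rel_29_7 : checkRel 29 7 = true := by decide +kernel

theorem rel_30_7 : checkRel 30 7 = true := by decide +kernel

theorem rel_31_7 : checkRel 31 7 = true := by decide +kernel

theorem rel_32_7 : checkRel 32 7 = true := by decide +kernel

theorem rel_33_7 : checkRel 33 7 = true := by decide +kernel

theorem rel_34_7 : checkRel 34 7 = true := by decide +kernel

theorem rel_35_7 : checkRel 35 7 = true := by decide +kernel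

theorem rel_36_7 : checkRel 36 7 = true := by decide +kernel

theorem rel_37_7 : checkRel 37 7 = true := by decide +kernel

theorem rel_38_7 : checkRel 38 7 = true := by decide +kernel

end Th
end H62
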