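import Mathlib
import Cfsg.Agent.H62.Th.Rows

/-!
Relators act as the identity on blocks of rows: part 1 of 8, checked by the kernel.
-/

set_option autoImplicit false
set_option Elab.async false
set_option maxRecDepth 100000

namespace H62
namespace Th

theorem rel_0_6 : checkRel 0 6 = true := by decide +kernel

theorem rel_1_6 : checkRel 1 6 = true := by decide +kernel

theorem rel_2_6 : checkRel 2 6 = true := by decide +kernel

theorem rel_3_6 : checkRel 3 6 = true := by decide +kernel

theorem rel_4_6 : checkRel 4 6 = true := by decide +kernel

theorem rel_5_6 : checkRel 5 6 = true := by decide +kernel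

theorem rel_6_6 : checkRel 6 6 = true := by decide +kernel

theorem rel_7_6 : checkRel 7 6 = true := by decide +kernel

theorem rel_8_6 : checkRel 8 6 = true := by decide +kernel

theorem rel_9_6 : checkRel 9 6 = true := by decide +kernel

theorem rel_10_6 : checkRel 10 6 = true := by decide +kernel

theorem rel_11_6 : checkRel 11 6 = true := by decide +kernel

theorem rel_12_6 : checkRel 12 6 = true := by decide +kernel

theorem rel_13_6 : checkRel 13 6 = true := by decide +kernel

theorem rel_14_6 : checkRel 14 6 = true := by decide +kernel

theorem rel_15_6 : checkRel 15 6 = true := by decide +kernel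

theorem rel_16_6 : checkRel 16 6 = true := by decide +kernel

theorem rel_17_6 : checkRel 17 6 = true := by decide +kernel

theorem rel_18_6 : checkRel 18 6 = true := by decide +kernel

theorem rel_19_6 : checkRel 19 6 = true := by decide +kernel

theorem rel_20_6 : checkRel 20 6 = true := by decide +kernel

theorem rel_21_6 : checkRel 21 6 = true := by decide +kernel

theorem rel_22_6 : checkRel 22 6 = true := by decide +kernel

theorem rel_23_6 : checkRel 23 6 = true := by decide +kernel

theorem rel_24_6 : checkRel 24 6 = true := by decide +kernel

theorem rel_25_6 : checkRel 25 6 = true := by decide +kernel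

theorem rel_26_6 : checkRel 26 6 = true := by decide +kernel

theorem rel_27_6 : checkRel 27 6 = true := by decide +kernel

theorem rel_28_6 : checkRel 28 6 = true := by decide +kernel

theorem rel_29_6 : checkRel 29 6 = true := by decide +kernel

theorem rel_30_6 : checkRel 30 6 = true := by decide +kernel

theorem rel_31_6 : checkRel 31 6 = true := by decide +kernel

theorem rel_32_6 : checkRel 32 6 = true := by decide +kernel

theorem rel_33_6 : checkRel 33 6 = true := by decide +kernel

theorem rel_34_6 : checkRel 34 6 = true := by decide +kernel

theorem rel_35_6 : checkRel 35 6 = true := by decide +kernel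

theorem rel_36_6 : checkRel 36 6 = true := by decide +kernel

theorem rel_37_6 : checkRel 37 6 = true := by decide +kernel

theorem rel_38_6 : checkRel 38 6 = true := by decide +kernel

end Th
end H62
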