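import Mathlib
import Cfsg.Agent.H62.Th.Rows

/-!
Relators act as the identity on blocks of rows: part 2 of 8, checked by the kernel.
-/

set_option autoImplicit false
set_option Elab.async false
set_option maxRecDepth 100000

namespace H62
namespace Th

theorem rel_0_5 : checkRel 0 5 = true := by decide +kernel

theorem rel_1_5 : checkRel 1 5 = true := by decide +kernel

theorem rel_2_5 : checkRel 2 5 = true := by decide +kernel

theorem rel_3_5 : checkRel 3 5 = true := by decide +kernel

theorem rel_4_5 : checkRel 4 5 = true := by decide +kernel

theorem rel_5_5 : checkRel 5 5 = true := by decide +kernel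

theorem rel_6_5 : checkRel 6 5 = true := by decide +kernel

theorem rel_7_5 : checkRel 7 5 = true := by decide +kernel

theorem rel_8_5 : checkRel 8 5 = true := by decide +kernel

theorem rel_9_5 : checkRel 9 5 = true := by decide +kernel

theorem rel_10_5 : checkRel 10 5 = true := by decide +kernel

theorem rel_11_5 : checkRel 11 5 = true := by decide +kernel

theorem rel_12_5 : checkRel 12 5 = true := by decide +kernel

theorem rel_13_5 : checkRel 13 5 = true := by decide +kernel

theorem rel_14_5 : checkRel 14 5 = true := by decide +kernel

theorem rel_15_5 : checkRel 15 5 = true := by decide +kernel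

theorem rel_16_5 : checkRel 16 5 = true := by decide +kernel

theorem rel_17_5 : checkRel 17 5 = true := by decide +kernel

theorem rel_18_5 : checkRel 18 5 = true := by decide +kernel

theorem rel_19_5 : checkRel 19 5 = true := by decide +kernel

theorem rel_20_5 : checkRel 20 5 = true := by decide +kernel

theorem rel_21_5 : checkRel 21 5 = true := by decide +kernel

theorem rel_22_5 : checkRel 22 5 = true := by decide +kernel

theorem rel_23_5 : checkRel 23 5 = true := by decide +kernel

theorem rel_24_5 : checkRel 24 5 = true := by decide +kernel

theorem rel_25_5 : checkRel 25 5 = true := by decide +kernel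

theorem rel_26_5 : checkRel 26 5 = true := by decide +kernel

theorem rel_27_5 : checkRel 27 5 = true := by decide +kernel

theorem rel_28_5 : checkRel 28 5 = true := by decide +kernel

theorem rel_29_5 : checkRel 29 5 = true := by decide +kernel

theorem rel_30_5 : checkRel 30 5 = true := by decide +kernel

theorem rel_31_5 : checkRel 31 5 = true := by decide +kernel

theorem rel_32_5 : checkRel 32 5 = true := by decide +kernel

theorem rel_33_5 : checkRel 33 5 = true := by decide +kernel

theorem rel_34_5 : checkRel 34 5 = true := by decide +kernel

theorem rel_35_5 : checkRel 35 5 = true := by decide +kernel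

theorem rel_36_5 : checkRel 36 5 = true := by decide +kernel

theorem rel_37_5 : checkRel 37 5 = true := by decide +kernel

theorem rel_38_5 : checkRel 38 5 = true := by decide +kernel

end Th
end H62
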