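import Mathlib
import Cfsg.Agent.H62.Th.Rows

/-!
Relators act as the identity on blocks of rows: part 3 of 8, checked by the kernel.
-/

set_option autoImplicit false
set_option Elab.async false
set_option maxRecDepth 100000

namespace H62
namespace Th

theorem rel_0_4 : checkRel 0 4 = true := by decide +kernel

theorem rel_1_4 : checkRel 1 4 = true := by decide +kernel

theorem rel_2_4 : checkRel 2 4 = true := by decide +kernel

theorem rel_3_4 : checkRel 3 4 = true := by decide +kernel

theorem rel_4_4 : checkRel 4 4 = true := by decide +kernel

theorem rel_5_4 : checkRel 5 4 = true := by decide +kernel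

theorem rel_6_4 : checkRel 6 4 = true := by decide +kernel

theorem rel_7_4 : checkRel 7 4 = true := by decide +kernel

theorem rel_8_4 : checkRel 8 4 = true := by decide +kernel

theorem rel_9_4 : checkRel 9 4 = true := by decide +kernel

theorem rel_10_4 : checkRel 10 4 = true := by decide +kernel

theorem rel_11_4 : checkRel 11 4 = true := by decide +kernel

theorem rel_12_4 : checkRel 12 4 = true := by decide +kernel

theorem rel_13_4 : checkRel 13 4 = true := by decide +kernel

theorem rel_14_4 : checkRel 14 4 = true := by decide +kernel

theorem rel_15_4 : checkRel 15 4 = true := by decide +kernel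

theorem rel_16_4 : checkRel 16 4 = true := by decide +kernel

theorem rel_17_4 : checkRel 17 4 = true := by decide +kernel

theorem rel_18_4 : checkRel 18 4 = true := by decide +kernel

theorem rel_19_4 : checkRel 19 4 = true := by decide +kernel

theorem rel_20_4 : checkRel 20 4 = true := by decide +kernel

theorem rel_21_4 : checkRel 21 4 = true := by decide +kernel

theorem rel_22_4 : checkRel 22 4 = true := by decide +kernel

theorem rel_23_4 : checkRel 23 4 = true := by decide +kernel

theorem rel_24_4 : checkRel 24 4 = true := by decide +kernel

theorem rel_25_4 : checkRel 25 4 = true := by decide +kernel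

theorem rel_26_4 : checkRel 26 4 = true := by decide +kernel

theorem rel_27_4 : checkRel 27 4 = true := by decide +kernel

theorem rel_28_4 : checkRel 28 4 = true := by decide +kernel

theorem rel_29_4 : checkRel 29 4 = true := by decide +kernel

theorem rel_30_4 : checkRel 30 4 = true := by decide +kernel

theorem rel_31_4 : checkRel 31 4 = true := by decide +kernel

theorem rel_32_4 : checkRel 32 4 = true := by decide +kernel

theorem rel_33_4 : checkRel 33 4 = true := by decide +kernel

theorem rel_34_4 : checkRel 34 4 = true := by decide +kernel

theorem rel_35_4 : checkRel 35 4 = true := by decide +kernel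

theorem rel_36_4 : checkRel 36 4 = true := by decide +kernel

theorem rel_37_4 : checkRel 37 4 = true := by decide +kernel

theorem rel_38_4 : checkRel 38 4 = true := by decide +kernel

end Th
end H62
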