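import Mathlib
import Cfsg.Agent.H62.Th.Rows

/-!
Relators act as the identity on blocks of rows: part 4 of 8, checked by the kernel.
-/

set_option autoImplicit false
set_option Elab.async false
set_option maxRecDepth 100000

namespace H62
namespace Th

theorem rel_0_3 : checkRel 0 3 = true := by decide +kernel

theorem rel_1_3 : checkRel 1 3 = true := by decide +kernel

theorem rel_2_3 : checkRel 2 3 = true := by decide +kernel

theorem rel_3_3 : checkRel 3 3 = true := by decide +kernel

theorem rel_4_3 : checkRel 4 3 = true := by decide +kernel

theorem rel_5_3 : checkRel 5 3 = true := by decide +kernel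

theorem rel_6_3 : checkRel 6 3 = true := by decide +kernel

theorem rel_7_3 : checkRel 7 3 = true := by decide +kernel

theorem rel_8_3 : checkRel 8 3 = true := by decide +kernel

theorem rel_9_3 : checkRel 9 3 = true := by decide +kernel

theorem rel_10_3 : checkRel 10 3 = true := by decide +kernel

theorem rel_11_3 : checkRel 11 3 = true := by decide +kernel

theorem rel_12_3 : checkRel 12 3 = true := by decide +kernel

theorem rel_13_3 : checkRel 13 3 = true := by decide +kernel

theorem rel_14_3 : checkRel 14 3 = true := by decide +kernel

theorem rel_15_3 : checkRel 15 3 = true := by decide +kernel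

theorem rel_16_3 : checkRel 16 3 = true := by decide +kernel

theorem rel_17_3 : checkRel 17 3 = true := by decide +kernel

theorem rel_18_3 : checkRel 18 3 = true := by decide +kernel

theorem rel_19_3 : checkRel 19 3 = true := by decide +kernel

theorem rel_20_3 : checkRel 20 3 = true := by decide +kernel

theorem rel_21_3 : checkRel 21 3 = true := by decide +kernel

theorem rel_22_3 : checkRel 22 3 = true := by decide +kernel

theorem rel_23_3 : checkRel 23 3 = true := by decide +kernel

theorem rel_24_3 : checkRel 24 3 = true := by decide +kernel

theorem rel_25_3 : checkRel 25 3 = true := by decide +kernel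

theorem rel_26_3 : checkRel 26 3 = true := by decide +kernel

theorem rel_27_3 : checkRel 27 3 = true := by decide +kernel

theorem rel_28_3 : checkRel 28 3 = true := by decide +kernel

theorem rel_29_3 : checkRel 29 3 = true := by decide +kernel

theorem rel_30_3 : checkRel 30 3 = true := by decide +kernel

theorem rel_31_3 : checkRel 31 3 = true := by decide +kernel

theorem rel_32_3 : checkRel 32 3 = true := by decide +kernel

theorem rel_33_3 : checkRel 33 3 = true := by decide +kernel

theorem rel_34_3 : checkRel 34 3 = true := by decide +kernel

theorem rel_35_3 : checkRel 35 3 = true := by decide +kernel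

theorem rel_36_3 : checkRel 36 3 = true := by decide +kernel

theorem rel_37_3 : checkRel 37 3 = true := by decide +kernel

theorem rel_38_3 : checkRel 38 3 = true := by decide +kernel

end Th
end H62
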