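import Mathlib
import Cfsg.Agent.H62.Th.Rows

/-!
Relators act as the identity on blocks of rows: part 5 of 8, checked by the kernel.
-/

set_option autoImplicit false
set_option Elab.async false
set_option maxRecDepth 100000

namespace H62
namespace Th

theorem rel_0_2 : checkRel 0 2 = true := by decide +kernel

theorem rel_1_2 : checkRel 1 2 = true := by decide +kernel

theorem rel_2_2 : checkRel 2 2 = true := by decide +kernel

theorem rel_3_2 : checkRel 3 2 = true := by decide +kernel

theorem rel_4_2 : checkRel 4 2 = true := by decide +kernel

theorem rel_5_2 : checkRel 5 2 = true := by decide +kernel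

theorem rel_6_2 : checkRel 6 2 = true := by decide +kernel

theorem rel_7_2 : checkRel 7 2 = true := by decide +kernel

theorem rel_8_2 : checkRel 8 2 = true := by decide +kernel

theorem rel_9_2 : checkRel 9 2 = true := by decide +kernel

theorem rel_10_2 : checkRel 10 2 = true := by decide +kernel

theorem rel_11_2 : checkRel 11 2 = true := by decide +kernel

theorem rel_12_2 : checkRel 12 2 = true := by decide +kernel

theorem rel_13_2 : checkRel 13 2 = true := by decide +kernel

theorem rel_14_2 : checkRel 14 2 = true := by decide +kernel

theorem rel_15_2 : checkRel 15 2 = true := by decide +kernel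

theorem rel_16_2 : checkRel 16 2 = true := by decide +kernel

theorem rel_17_2 : checkRel 17 2 = true := by decide +kernel

theorem rel_18_2 : checkRel 18 2 = true := by decide +kernel

theorem rel_19_2 : checkRel 19 2 = true := by decide +kernel

theorem rel_20_2 : checkRel 20 2 = true := by decide +kernel

theorem rel_21_2 : checkRel 21 2 = true := by decide +kernel

theorem rel_22_2 : checkRel 22 2 = true := by decide +kernel

theorem rel_23_2 : checkRel 23 2 = true := by decide +kernel

theorem rel_24_2 : checkRel 24 2 = true := by decide +kernel

theorem rel_25_2 : checkRel 25 2 = true := by decide +kernel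

theorem rel_26_2 : checkRel 26 2 = true := by decide +kernel

theorem rel_27_2 : checkRel 27 2 = true := by decide +kernel

theorem rel_28_2 : checkRel 28 2 = true := by decide +kernel

theorem rel_29_2 : checkRel 29 2 = true := by decide +kernel

theorem rel_30_2 : checkRel 30 2 = true := by decide +kernel

theorem rel_31_2 : checkRel 31 2 = true := by decide +kernel

theorem rel_32_2 : checkRel 32 2 = true := by decide +kernel

theorem rel_33_2 : checkRel 33 2 = true := by decide +kernel

theorem rel_34_2 : checkRel 34 2 = true := by decide +kernel

theorem rel_35_2 : checkRel 35 2 = true := by decide +kernel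

theorem rel_36_2 : checkRel 36 2 = true := by decide +kernel

theorem rel_37_2 : checkRel 37 2 = true := by decide +kernel

theorem rel_38_2 : checkRel 38 2 = true := by decide +kernel

end Th
end H62
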