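import Mathlib
import Cfsg.Agent.H62.Th.Rows

/-!
Relators act as the identity on blocks of rows: part 6 of 8, checked by the kernel.
-/

set_option autoImplicit false
set_option Elab.async false
set_option maxRecDepth 100000

namespace H62
namespace Th

theorem rel_0_1 : checkRel 0 1 = true := by decide +kernel

theorem rel_1_1 : checkRel 1 1 = true := by decide +kernel

theorem rel_2_1 : checkRel 2 1 = true := by decide +kernel

theorem rel_3_1 : checkRel 3 1 = true := by decide +kernel

theorem rel_4_1 : checkRel 4 1 = true := by decide +kernel

theorem rel_5_1 : checkRel 5 1 = true := by decide +kernel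

theorem rel_6_1 : checkRel 6 1 = true := by decide +kernel

theorem rel_7_1 : checkRel 7 1 = true := by decide +kernel

theorem rel_8_1 : checkRel 8 1 = true := by decide +kernel

theorem rel_9_1 : checkRel 9 1 = true := by decide +kernel

theorem rel_10_1 : checkRel 10 1 = true := by decide +kernel

theorem rel_11_1 : checkRel 11 1 = true := by decide +kernel

theorem rel_12_1 : checkRel 12 1 = true := by decide +kernel

theorem rel_13_1 : checkRel 13 1 = true := by decide +kernel

theorem rel_14_1 : checkRel 14 1 = true := by decide +kernel

theorem rel_15_1 : checkRel 15 1 = true := by decide +kernel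

theorem rel_16_1 : checkRel 16 1 = true := by decide +kernel

theorem rel_17_1 : checkRel 17 1 = true := by decide +kernel

theorem rel_18_1 : checkRel 18 1 = true := by decide +kernel

theorem rel_19_1 : checkRel 19 1 = true := by decide +kernel

theorem rel_20_1 : checkRel 20 1 = true := by decide +kernel

theorem rel_21_1 : checkRel 21 1 = true := by decide +kernel

theorem rel_22_1 : checkRel 22 1 = true := by decide +kernel

theorem rel_23_1 : checkRel 23 1 = true := by decide +kernel

theorem rel_24_1 : checkRel 24 1 = true := by decide +kernel

theorem rel_25_1 : checkRel 25 1 = true := by decide +kernel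

theorem rel_26_1 : checkRel 26 1 = true := by decide +kernel

theorem rel_27_1 : checkRel 27 1 = true := by decide +kernel

theorem rel_28_1 : checkRel 28 1 = true := by decide +kernel

theorem rel_29_1 : checkRel 29 1 = true := by decide +kernel

theorem rel_30_1 : checkRel 30 1 = true := by decide +kernel

theorem rel_31_1 : checkRel 31 1 = true := by decide +kernel

theorem rel_32_1 : checkRel 32 1 = true := by decide +kernel

theorem rel_33_1 : checkRel 33 1 = true := by decide +kernel

theorem rel_34_1 : checkRel 34 1 = true := by decide +kernel

theorem rel_35_1 : checkRel 35 1 = true := by decide +kernel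

theorem rel_36_1 : checkRel 36 1 = true := by decide +kernel

theorem rel_37_1 : checkRel 37 1 = true := by decide +kernel

theorem rel_38_1 : checkRel 38 1 = true := by decide +kernel

end Th
end H62
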