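import Mathlib
import Cfsg.Agent.H62.Th.Rows

/-!
Relators act as the identity on blocks of rows: part 7 of 8, checked by the kernel.
-/

set_option autoImplicit false
set_option Elab.async false
set_option maxRecDepth 100000

namespace H62
namespace Th

theorem rel_0_0 : checkRel 0 0 = true := by decide +kernel

theorem rel_1_0 : checkRel 1 0 = true := by decide +kernel

theorem rel_2_0 : checkRel 2 0 = true := by decide +kernel

theorem rel_3_0 : checkRel 3 0 = true := by decide +kernel

theorem rel_4_0 : checkRel 4 0 = true := by decide +kernel

theorem rel_5_0 : checkRel 5 0 = true := by decide +kernel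

theorem rel_6_0 : checkRel 6 0 = true := by decide +kernel

theorem rel_7_0 : checkRel 7 0 = true := by decide +kernel

theorem rel_8_0 : checkRel 8 0 = true := by decide +kernel

theorem rel_9_0 : checkRel 9 0 = true := by decide +kernel

theorem rel_10_0 : checkRel 10 0 = true := by decide +kernel

theorem rel_11_0 : checkRel 11 0 = true := by decide +kernel

theorem rel_12_0 : checkRel 12 0 = true := by decide +kernel

theorem rel_13_0 : checkRel 13 0 = true := by decide +kernel

theorem rel_14_0 : checkRel 14 0 = true := by decide +kernel

theorem rel_15_0 : checkRel 15 0 = true := by decide +kernel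

theorem rel_16_0 : checkRel 16 0 = true := by decide +kernel

theorem rel_17_0 : checkRel 17 0 = true := by decide +kernel

theorem rel_18_0 : checkRel 18 0 = true := by decide +kernel

theorem rel_19_0 : checkRel 19 0 = true := by decide +kernel

theorem rel_20_0 : checkRel 20 0 = true := by decide +kernel

theorem rel_21_0 : checkRel 21 0 = true := by decide +kernel

theorem rel_22_0 : checkRel 22 0 = true := by decide +kernel

theorem rel_23_0 : checkRel 23 0 = true := by decide +kernel

theorem rel_24_0 : checkRel 24 0 = true := by decide +kernel

theorem rel_25_0 : checkRel 25 0 = true := by decide +kernel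

theorem rel_26_0 : checkRel 26 0 = true := by decide +kernel

theorem rel_27_0 : checkRel 27 0 = true := by decide +kernel

theorem rel_28_0 : checkRel 28 0 = true := by decide +kernel

theorem rel_29_0 : checkRel 29 0 = true := by decide +kernel

theorem rel_30_0 : checkRel 30 0 = true := by decide +kernel

theorem rel_31_0 : checkRel 31 0 = true := by decide +kernel

theorem rel_32_0 : checkRel 32 0 = true := by decide +kernel

theorem rel_33_0 : checkRel 33 0 = true := by decide +kernel

theorem rel_34_0 : checkRel 34 0 = true := by decide +kernel

theorem rel_35_0 : checkRel 35 0 = true := by decide +kernel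

theorem rel_36_0 : checkRel 36 0 = true := by decide +kernel

theorem rel_37_0 : checkRel 37 0 = true := by decide +kernel

theorem rel_38_0 : checkRel 38 0 = true := by decide +kernel

end Th
end H62
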