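import Mathlib
import Cfsg.Agent.H62.Th.Rel0
import Cfsg.Agent.H62.Th.Rel1
import Cfsg.Agent.H62.Th.Rel2
import Cfsg.Agent.H62.Th.Rel3
import Cfsg.Agent.H62.Th.Rel4
import Cfsg.Agent.H62.Th.Rel5
import Cfsg.Agent.H62.Th.Rel6
import Cfsg.Agent.H62.Th.Rel7

/-!
All relators act as the identity on all blocks of rows.
-/

set_option autoImplicit false

namespace H62
namespace Th

theorem extra_length : Cfsg.Spor.Th.extra.length = 39 := rfl

theorem checkRel_all : ∀ i < 39, ∀ b < 8, checkRel i b = true := by
  intro i hi b hb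
  interval_cases i <;> interval_cases b
  · exact rel_0_0
  · exact rel_0_1
  · exact rel_0_2
  · exact rel_0_3
  · exact rel_0_4
  · exact rel_0_5
  · exact rel_0_6
  · exact rel_0_7
  · exact rel_1_0
  · exact rel_1_1
  · exact rel_1_2
  · exact rel_1_3
  · exact rel_1_4
  · exact rel_1_5
  · exact rel_1_6
  · exact rel_1_7
  · exact rel_2_0
  · exact rel_2_1
  · exact rel_2_2
  · exact rel_2_3
  · exact rel_2_4
  · exact rel_2_5
  · exact rel_2_6
  · exact rel_2_7
  · exact rel_3_0
  · exact rel_3_1
  · exact rel_3_2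
  · exact rel_3_3
  · exact rel_3_4
  · exact rel_3_5
  · exact rel_3_6
  · exact rel_3_7
  · exact rel_4_0
  · exact rel_4_1
  · exact rel_4_2
  · exact rel_4_3
  · exact rel_4_4
  · exact rel_4_5
  · exact rel_4_6
  · exact rel_4_7
  · exact rel_5_0
  · exact rel_5_1
  · exact rel_5_2
  · exact rel_5_3
  · exact rel_5_4
  · exact rel_5_5
  · exact rel_5_6
  · exact rel_5_7
  · exact rel_6_0
  · exact rel_6_1
  · exact rel_6_2
  · exact rel_6_3
  · exact rel_6_4
  · exact rel_6_5
  · exact rel_6_6
  · exact rel_6_7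
  · exact rel_7_0
  · exact rel_7_1
  · exact rel_7_2
  · exact rel_7_3
  · exact rel_7_4
  · exact rel_7_5
  · exact rel_7_6
  · exact rel_7_7
  · exact rel_8_0
  · exact rel_8_1
  · exact rel_8_2
  · exact rel_8_3
  · exact rel_8_4
  · exact rel_8_5
  · exact rel_8_6
  · exact rel_8_7
  · exact rel_9_0
  · exact rel_9_1
  · exact rel_9_2
  · exact rel_9_3
  · exact rel_9_4
  · exact rel_9_5
  · exact rel_9_6
  · exact rel_9_7
  · exact rel_10_0
  · exact rel_10_1
  · exact rel_10_2
  · exact rel_10_3
  · exact rel_10_4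
  · exact rel_10_5
  · exact rel_10_6
  · exact rel_10_7
  · exact rel_11_0
  · exact rel_11_1
  · exact rel_11_2
  · exact rel_11_3
  · exact rel_11_4
  · exact rel_11_5
  · exact rel_11_6
  · exact rel_11_7
  · exact rel_12_0
  · exact rel_12_1
  · exact rel_12_2
  · exact rel_12_3
  · exact rel_12_4
  · exact rel_12_5
  · exact rel_12_6
  · exact rel_12_7
  · exact rel_13_0
  · exact rel_13_1
  · exact rel_13_2
  · exact rel_13_3
  · exact rel_13_4
  · exact rel_13_5
  · exact rel_13_6
  · exact rel_13_7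
  · exact rel_14_0
  · exact rel_14_1
  · exact rel_14_2
  · exact rel_14_3
  · exact rel_14_4
  · exact rel_14_5
  · exact rel_14_6
  · exact rel_14_7
  · exact rel_15_0
  · exact rel_15_1
  · exact rel_15_2
  · exact rel_15_3
  · exact rel_15_4
  · exact rel_15_5
  · exact rel_15_6
  · exact rel_15_7
  · exact rel_16_0
  · exact rel_16_1
  · exact rel_16_2
  · exact rel_16_3
  · exact rel_16_4
  · exact rel_16_5
  · exact rel_16_6
  · exact rel_16_7
  · exact rel_17_0
  · exact rel_17_1
  · exact rel_17_2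
  · exact rel_17_3
  · exact rel_17_4
  · exact rel_17_5
  · exact rel_17_6
  · exact rel_17_7
  · exact rel_18_0
  · exact rel_18_1
  · exact rel_18_2
  · exact rel_18_3
  · exact rel_18_4
  · exact rel_18_5
  · exact rel_18_6
  · exact rel_18_7
  · exact rel_19_0
  · exact rel_19_1
  · exact rel_19_2
  · exact rel_19_3
  · exact rel_19_4
  · exact rel_19_5
  · exact rel_19_6
  · exact rel_19_7
  · exact rel_20_0
  · exact rel_20_1
  · exact rel_20_2
  · exact rel_20_3
  · exact rel_20_4
  · exact rel_20_5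
  · exact rel_20_6
  · exact rel_20_7
  · exact rel_21_0
  · exact rel_21_1
  · exact rel_21_2
  · exact rel_21_3
  · exact rel_21_4
  · exact rel_21_5
  · exact rel_21_6
  · exact rel_21_7
  · exact rel_22_0
  · exact rel_22_1
  · exact rel_22_2
  · exact rel_22_3
  · exact rel_22_4
  · exact rel_22_5
  · exact rel_22_6
  · exact rel_22_7
  · exact rel_23_0
  · exact rel_23_1
  · exact rel_23_2
  · exact rel_23_3
  · exact rel_23_4
  · exact rel_23_5
  · exact rel_23_6
  · exact rel_23_7
  · exact rel_24_0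
  · exact rel_24_1
  · exact rel_24_2
  · exact rel_24_3
  · exact rel_24_4
  · exact rel_24_5
  · exact rel_24_6
  · exact rel_24_7
  · exact rel_25_0
  · exact rel_25_1
  · exact rel_25_2
  · exact rel_25_3
  · exact rel_25_4
  · exact rel_25_5
  · exact rel_25_6
  · exact rel_25_7
  · exact rel_26_0
  · exact rel_26_1
  · exact rel_26_2
  · exact rel_26_3
  · exact rel_26_4
  · exact rel_26_5
  · exact rel_26_6
  · exact rel_26_7
  · exact rel_27_0
  · exact rel_27_1
  · exact rel_27_2
  · exact rel_27_3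
  · exact rel_27_4
  · exact rel_27_5
  · exact rel_27_6
  · exact rel_27_7
  · exact rel_28_0
  · exact rel_28_1
  · exact rel_28_2
  · exact rel_28_3
  · exact rel_28_4
  · exact rel_28_5
  · exact rel_28_6
  · exact rel_28_7
  · exact rel_29_0
  · exact rel_29_1
  · exact rel_29_2
  · exact rel_29_3
  · exact rel_29_4
  · exact rel_29_5
  · exact rel_29_6
  · exact rel_29_7
  · exact rel_30_0
  · exact rel_30_1
  · exact rel_30_2
  · exact rel_30_3
  · exact rel_30_4
  · exact rel_30_5
  · exact rel_30_6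
  · exact rel_30_7
  · exact rel_31_0
  · exact rel_31_1
  · exact rel_31_2
  · exact rel_31_3
  · exact rel_31_4
  · exact rel_31_5
  · exact rel_31_6
  · exact rel_31_7
  · exact rel_32_0
  · exact rel_32_1
  · exact rel_32_2
  · exact rel_32_3
  · exact rel_32_4
  · exact rel_32_5
  · exact rel_32_6
  · exact rel_32_7
  · exact rel_33_0
  · exact rel_33_1
  · exact rel_33_2
  · exact rel_33_3
  · exact rel_33_4
  · exact rel_33_5
  · exact rel_33_6
  · exact rel_33_7
  · exact rel_34_0
  · exact rel_34_1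
  · exact rel_34_2
  · exact rel_34_3
  · exact rel_34_4
  · exact rel_34_5
  · exact rel_34_6
  · exact rel_34_7
  · exact rel_35_0
  · exact rel_35_1
  · exact rel_35_2
  · exact rel_35_3
  · exact rel_35_4
  · exact rel_35_5
  · exact rel_35_6
  · exact rel_35_7
  · exact rel_36_0
  · exact rel_36_1
  · exact rel_36_2
  · exact rel_36_3
  · exact rel_36_4
  · exact rel_36_5
  · exact rel_36_6
  · exact rel_36_7
  · exact rel_37_0
  · exact rel_37_1
  · exact rel_37_2
  · exact rel_37_3
  · exact rel_37_4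
  · exact rel_37_5
  · exact rel_37_6
  · exact rel_37_7
  · exact rel_38_0
  · exact rel_38_1
  · exact rel_38_2
  · exact rel_38_3
  · exact rel_38_4
  · exact rel_38_5
  · exact rel_38_6
  · exact rel_38_7

end Th
end H62
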