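import Mathlib
import Cfsg.Agent.H62.Th.Rels
import Cfsg.Agent.H62.Th.GenOK

/-!
The representation of degree 248 over the integers modulo three of the presented Thompson group.
-/

set_option autoImplicit false

namespace H62
namespace Th

open Cfsg.Spor

theorem checkGen_all : ∀ g < 8, checkGen g = true := by
  intro g hg
  interval_cases g
  · exact genOK0
  · exact genOK1
  · exact genOK2
  · exact genOK3
  · exact genOK4
  · exact genOK5
  · exact genOK6
  · exact genOK7

theorem okRows_all : ∀ g < 8, okRows (rows g) = true := by decide +kernel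

theorem idx_lt : ∀ g : Th.Gen, idx g < 8 := fun g => by cases g <;> decide

/-- the matrix of a letter -/
noncomputable def mtx (g : ℕ) : Mat := matOf (code g)

theorem rep_mtx {g : ℕ} (hg : g < 8) : Rep (code g) (mtx g) := by
  have h := checkGen_all g hg
  simp only [checkGen, fz_eq, Bool.and_eq_true] at h
  exact rep_matOf h.1

theorem repL_mtx {g : ℕ} (hg : g < 8) : RepL (rows g) (mtx g) := by
  have h := checkGen_all g hg
  simp only [checkGen, fz_eq, Bool.and_eq_true] at h
  rw [mtx, ← asm_rows]
  exact repL_of_check (okRows_all g hg) (by rw [asm_rows]; exact h.1)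

theorem mtx_pow {g : ℕ} (hg : g < 8) : mtx g ^ ordOf g = 1 := by
  have h := checkGen_all g hg
  simp only [checkGen, fz_eq, Bool.and_eq_true] at h
  have h2 := sameC_spec (m := mtx) h.2
    (fun a ha => by rw [List.eq_of_mem_replicate ha]; exact rep_mtx hg) (fun a ha => by simp at ha)
  simpa using h2

theorem ordOf_pos (g : ℕ) : 0 < ordOf g := by
  unfold ordOf; split <;> norm_num

/-- the invertible matrix of a generator -/
noncomputable def unitOf (g : Th.Gen) : Matˣ :=
  Units.ofPowEqOne (mtx (idx g)) (ordOf (idx g)) (mtx_pow (idx_lt g)) (ordOf_pos _).ne'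

theorem unitOf_val (g : Th.Gen) : ((unitOf g : Matˣ) : Mat) = mtx (idx g) := rfl

theorem unitOf_inv (g : Th.Gen) :
    (((unitOf g)⁻¹ : Matˣ) : Mat) = mtx (idx g) ^ (ordOf (idx g) - 1) := by
  refine Units.inv_eq_of_mul_eq_one_right ?_
  rw [unitOf_val, ← pow_succ', Nat.sub_add_cancel (ordOf_pos _), mtx_pow (idx_lt g)]

theorem letWord_prod (x : Th.Gen × Bool) :
    ((letWord x).map mtx).prod = ((cond x.2 (unitOf x.1) (unitOf x.1)⁻¹ : Matˣ) : Mat) := by
  obtain ⟨g, b⟩ := x
  cases b
  · simp only [letWord, cond_false, List.map_replicate, List.prod_replicate, unitOf_inv]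
  · simp [letWord, unitOf_val]

theorem relWord_lt (r : FreeGroup Th.Gen) : ∀ g ∈ relWord r, g < 8 := by
  intro g hg
  simp only [relWord, List.mem_flatMap] at hg
  obtain ⟨⟨x, b⟩, -, hg⟩ := hg
  cases b
  · simp only [letWord, cond_false] at hg
    rw [List.eq_of_mem_replicate hg]; exact idx_lt x
  · simp only [letWord, cond_true, List.mem_singleton] at hg
    rw [hg]; exact idx_lt x

theorem relWord_prod (r : FreeGroup Th.Gen) :
    ((FreeGroup.lift unitOf r : Matˣ) : Mat) = ((relWord r).map mtx).prod := by
  conv_lhs => rw [← FreeGroup.mk_toWord (x := r)]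
  rw [FreeGroup.lift_mk, relWord]
  induction r.toWord with
  | nil => simp
  | cons x l ih =>
    rw [List.map_cons, List.prod_cons, List.flatMap_cons, List.map_append, List.prod_append,
      Units.val_mul, ih, letWord_prod]

theorem rels_hold : ∀ r ∈ coxRelators Th.edges ∪ {r | r ∈ Th.extra}, FreeGroup.lift unitOf r = 1 := by
  rintro r (⟨x, hx, -⟩ | hr)
  · simp [Th.edges, coxNodes] at hx
  · obtain ⟨i, hi, rfl⟩ := List.getElem_of_mem hr
    refine Units.ext ?_
    rw [relWord_prod, Units.val_one]
    have h := sameB_spec (rowsOf := rows) (m := mtx) (u := relWord Th.extra[i]) (v := [])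
      (fun b hb => ?_) (fun g hg => repL_mtx (relWord_lt _ g hg)) (fun g hg => by simp at hg)
    · simpa using h
    · have := checkRel_all i (by rw [extra_length] at hi; exact hi) b hb
      rwa [checkRel, List.getD_eq_getElem _ _ hi] at this

/-- the representation of degree 248 -/
noncomputable def rho : Cfsg.Spor.Th →* Matˣ := PresentedGroup.toGroup rels_hold

theorem rho_of (g : Th.Gen) : rho (PresentedGroup.of g) = unitOf g :=
  PresentedGroup.toGroup.of rels_hold

theorem rho_mk (w : FreeGroup Th.Gen) :
    rho (PresentedGroup.mk (coxRelators Th.edges ∪ {r | r ∈ Th.extra}) w) =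
      FreeGroup.lift unitOf w := rfl

theorem rho_val (g : Th.Gen) : ((rho (PresentedGroup.of g) : Matˣ) : Mat) = mtx (idx g) := by
  rw [rho_of, unitOf_val]

theorem rho_inv_val (g : Th.Gen) :
    (((rho (PresentedGroup.of g))⁻¹ : Matˣ) : Mat) = mtx (idx g) ^ (ordOf (idx g) - 1) := by
  rw [rho_of, unitOf_inv]

end Th
end H62
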