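import Mathlib
import Cfsg.Agent.H62.Th.MulRows

/-!
A chain of subgroups, each normalised by the next generator: its last member has order the power
of the prime given by the length. Separation of cosets by the images of one row.
-/

set_option autoImplicit false
set_option linter.unusedSectionVars false

namespace H62
namespace Th

section group

variable {G : Type*} [Group G] [Finite G]

/-- the subgroup of the first members -/
def pcSub (x : ℕ → G) (i : ℕ) : Subgroup G := Subgroup.closure (x '' Set.Iio i)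

theorem pcSub_zero (x : ℕ → G) : pcSub x 0 = ⊥ := by simp [pcSub]

theorem pcSub_le {x : ℕ → G} {i j : ℕ} (h : i ≤ j) : pcSub x i ≤ pcSub x j :=
  Subgroup.closure_mono (Set.image_mono (Set.Iio_subset_Iio h))

theorem mem_pcSub {x : ℕ → G} {i j : ℕ} (h : j < i) : x j ∈ pcSub x i :=
  Subgroup.subset_closure ⟨j, h, rfl⟩

theorem conj_mem {x : ℕ → G} {i : ℕ} (h : ∀ j < i, (x i)⁻¹ * x j * x i ∈ pcSub x i) {a : G}
    (ha : a ∈ pcSub x i) : x i * a * (x i)⁻¹ ∈ pcSub x i := by
  let f : G →* G := (MulAut.conj (x i)⁻¹).toMonoidHom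
  have hle : (pcSub x i).map f ≤ pcSub x i := by
    rw [pcSub, MonoidHom.map_closure, Subgroup.closure_le]
    rintro _ ⟨_, ⟨j, hj, rfl⟩, rfl⟩
    simpa [f, MulAut.conj_apply, pcSub] using h j hj
  have hinj : Function.Injective f := (MulAut.conj (x i)⁻¹).injective
  have he : (pcSub x i).map f = pcSub x i := by
    refine Subgroup.eq_of_le_of_card_ge hle (le_of_eq ?_)
    exact (Nat.card_congr (Subgroup.equivMapOfInjective _ f hinj).toEquiv)
  rw [← he] at ha
  obtain ⟨b, hb, rfl⟩ := ha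
  simpa [f, MulAut.conj_apply, mul_assoc] using hb

/-- every member of the next subgroup is a power of the new generator after an old member -/
theorem mem_step {x : ℕ → G} {p i : ℕ} (hp : 0 < p) (hpow : x i ^ p ∈ pcSub x i)
    (hc : ∀ j < i, (x i)⁻¹ * x j * x i ∈ pcSub x i) {a : G} (ha : a ∈ pcSub x (i + 1)) :
    ∃ h ∈ pcSub x i, ∃ e < p, a = h * x i ^ e := by
  have red : ∀ n : ℕ, ∃ h ∈ pcSub x i, ∃ e < p, x i ^ n = h * x i ^ e := fun n =>
    ⟨(x i ^ p) ^ (n / p), pow_mem hpow _, n % p, Nat.mod_lt _ hp, by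
      rw [← pow_mul, ← pow_add, Nat.div_add_mod]⟩
  have hpc : ∀ e : ℕ, ∀ b ∈ pcSub x i, x i ^ e * b * (x i ^ e)⁻¹ ∈ pcSub x i := by
    intro e
    induction e with
    | zero => intro b hb; simpa using hb
    | succ e ih =>
      intro b hb
      have := conj_mem hc (ih b hb)
      rw [pow_succ', mul_inv_rev]
      simpa [mul_assoc] using this
  induction ha using Subgroup.closure_induction with
  | mem y hy =>
    obtain ⟨j, hj, rfl⟩ := hy
    rcases lt_or_eq_of_le (Nat.lt_succ_iff.mp (Set.mem_Iio.mp hj)) with h | h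
    · exact ⟨x j, mem_pcSub h, 0, hp, by simp⟩
    · subst h
      obtain ⟨h, hh, e, he, hq⟩ := red 1
      exact ⟨h, hh, e, he, by simpa using hq⟩
  | one => exact ⟨1, one_mem _, 0, hp, by simp⟩
  | mul a b _ _ ha hb =>
    obtain ⟨h, hh, e, he, rfl⟩ := ha
    obtain ⟨k, hk, f, hf, rfl⟩ := hb
    obtain ⟨l, hl, g, hg, hq⟩ := red (e + f)
    refine ⟨h * (x i ^ e * k * (x i ^ e)⁻¹) * l, mul_mem (mul_mem hh (hpc e k hk)) hl, g, hg, ?_⟩
    rw [mul_assoc _ l, ← hq, pow_add]
    group
  | inv a _ ha =>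
    obtain ⟨h, hh, e, he, rfl⟩ := ha
    obtain ⟨l, hl, g, hg, hq⟩ := red (p - e)
    refine ⟨(x i ^ p)⁻¹ * (x i ^ (p - e) * h⁻¹ * (x i ^ (p - e))⁻¹) * l,
      mul_mem (mul_mem (inv_mem hpow) (hpc _ _ (inv_mem hh))) hl, g, hg, ?_⟩
    rw [mul_assoc _ l, ← hq, mul_inv_rev, show x i ^ p = x i ^ (p - e) * x i ^ e by
      rw [← pow_add, Nat.sub_add_cancel he.le]]
    group

theorem card_pcSub {x : ℕ → G} {p : ℕ} (hp : p.Prime) : ∀ n : ℕ,
    (∀ i < n, x i ^ p ∈ pcSub x i ∧ (∀ j < i, (x i)⁻¹ * x j * x i ∈ pcSub x i) ∧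
      x i ∉ pcSub x i) → Nat.card (pcSub x n) = p ^ n
  | 0, _ => by rw [pcSub_zero]; simp
  | n + 1, h => by
    obtain ⟨hpow, hc, hnot⟩ := h n (Nat.lt_succ_self n)
    have ih := card_pcSub hp n fun i hi => h i (hi.trans (Nat.lt_succ_self n))
    let F : pcSub x n × Fin p → pcSub x (n + 1) := fun q =>
      ⟨q.1 * x n ^ (q.2 : ℕ),
        mul_mem (pcSub_le (Nat.le_succ n) q.1.2) (pow_mem (mem_pcSub (Nat.lt_succ_self n)) _)⟩
    have hF : Function.Bijective F := by
      have key : ∀ (a b : pcSub x n) (c d : Fin p), c.val < d.val → F (a, c) ≠ F (b, d) := by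
        intro a b c d hcd he
        have he' : (a : G) * x n ^ (c : ℕ) = b * x n ^ (d : ℕ) := congrArg Subtype.val he
        rw [show (d : ℕ) = (d.val - c.val) + c.val by omega, pow_add, ← mul_assoc] at he'
        have h1 : x n ^ (d.val - c.val) ∈ pcSub x n := by
          rw [eq_inv_mul_of_mul_eq (mul_right_cancel he').symm]
          exact mul_mem (inv_mem b.2) a.2
        have hco : Nat.gcd (d.val - c.val) p = 1 :=
          ((hp.coprime_iff_not_dvd).mpr fun hd => by
            have := Nat.le_of_dvd (by omega) hd; omega).symm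
        refine hnot ?_
        have hb := Nat.gcd_eq_gcd_ab (d.val - c.val) p
        rw [hco] at hb
        have h2 : x n ^ ((1 : ℕ) : ℤ) ∈ pcSub x n := by
          rw [hb, zpow_add, zpow_mul, zpow_mul, zpow_natCast, zpow_natCast]
          exact mul_mem (zpow_mem h1 _) (zpow_mem hpow _)
        simpa using h2
      refine ⟨?_, ?_⟩
      · rintro ⟨a, c⟩ ⟨b, d⟩ he
        rcases lt_trichotomy c.val d.val with hl | hl | hl
        · exact absurd he (key a b c d hl)
        · obtain rfl : c = d := Fin.ext hl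
          have := mul_right_cancel (congrArg Subtype.val he : (a : G) * _ = (b : G) * _)
          rw [Prod.mk.injEq]
          exact ⟨Subtype.ext this, rfl⟩
        · exact absurd he.symm (key b a d c hl)
      · rintro ⟨a, ha⟩
        obtain ⟨h, hh, e, he, rfl⟩ := mem_step hp.pos hpow hc ha
        exact ⟨(⟨h, hh⟩, ⟨e, he⟩), rfl⟩
    rw [← Nat.card_congr (Equiv.ofBijective F hF), Nat.card_prod, Nat.card_fin, ih, pow_succ]

/-- products with the members listed in descending order cover every coset -/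
theorem mem_descend {x : ℕ → G} {p : ℕ} (hp : 0 < p) (m : ℕ) : ∀ k : ℕ,
    (∀ i < m + k, x i ^ p ∈ pcSub x i ∧ ∀ j < i, (x i)⁻¹ * x j * x i ∈ pcSub x i) →
    ∀ {a : G}, a ∈ pcSub x (m + k) → ∃ h ∈ pcSub x m, ∃ es : List ℕ, es.length = k ∧
      (∀ e ∈ es, e < p) ∧
      a = (((List.range' m k).reverse.zip es).map fun q => x q.1 ^ q.2).prod * h
  | 0, _, a, ha => ⟨a, ha, [], rfl, by simp, by simp⟩
  | k + 1, hx, a, ha => by
    obtain ⟨hpow, hc⟩ := hx (m + k) (by omega)
    obtain ⟨h, hh, e, he, hq⟩ := mem_step hp hpow hc (inv_mem ha)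
    have hq2 : a = (x (m + k) ^ e)⁻¹ * h⁻¹ := by rw [← mul_inv_rev, ← hq, inv_inv]
    obtain ⟨f, g, hf, hg, hr⟩ : ∃ f g, f < p ∧ g ∈ pcSub x (m + k) ∧
        (x (m + k) ^ e)⁻¹ = x (m + k) ^ f * g := by
      rcases Nat.eq_zero_or_pos e with rfl | hpos
      · exact ⟨0, 1, hp, one_mem _, by simp⟩
      · refine ⟨p - e, (x (m + k) ^ p)⁻¹, by omega, inv_mem hpow, ?_⟩
        rw [eq_mul_inv_iff_mul_eq, inv_mul_eq_iff_eq_mul, ← pow_add, Nat.add_sub_cancel' he.le]
    obtain ⟨h', hh', es, hlen, hes, hrest⟩ :=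
      mem_descend hp m k (fun i hi => hx i (by omega)) (mul_mem hg (inv_mem hh))
    refine ⟨h', hh', f :: es, by simp [hlen], ?_, ?_⟩
    · simpa [hf] using hes
    · rw [List.range'_concat, List.reverse_append, Nat.one_mul]
      simp only [List.reverse_cons, List.reverse_nil, List.nil_append, List.cons_append,
        List.zip_cons_cons, List.map_cons, List.prod_cons]
      rw [hq2, hr, mul_assoc, hrest, mul_assoc]

/-- products with the members listed in ascending order cover the subgroup -/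
theorem mem_ascend {x : ℕ → G} {p : ℕ} (hp : 0 < p) : ∀ m : ℕ,
    (∀ i < m, x i ^ p ∈ pcSub x i ∧ ∀ j < i, (x i)⁻¹ * x j * x i ∈ pcSub x i) →
    ∀ {a : G}, a ∈ pcSub x m → ∃ es : List ℕ, es.length = m ∧ (∀ e ∈ es, e < p) ∧
      a = (((List.range' 0 m).zip es).map fun q => x q.1 ^ q.2).prod
  | 0, _, a, ha => ⟨[], rfl, by simp, by rw [pcSub_zero, Subgroup.mem_bot] at ha; simpa using ha⟩
  | m + 1, hx, a, ha => by
    obtain ⟨hpow, hc⟩ := hx m (Nat.lt_succ_self m)
    obtain ⟨h, hh, e, he, rfl⟩ := mem_step hp hpow hc ha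
    obtain ⟨es, hlen, hes, rfl⟩ := mem_ascend hp m (fun i hi => hx i (by omega)) hh
    refine ⟨es ++ [e], by simp [hlen], ?_, ?_⟩
    · intro f hf
      rcases List.mem_append.mp hf with hf | hf
      · exact hes f hf
      · simp only [List.mem_singleton] at hf; omega
    · rw [List.range'_concat, List.zip_append (by simp [hlen])]
      simp

end group

end Th
end H62
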