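import Mathlib
import Cfsg.Agent.H62.Th.MulRows
import Cfsg.Agent.H62.Th.PC
import Cfsg.Agent.H62.Th.Code

/-!
A member lies outside the subgroup of the earlier ones when two lists of images of one row are
disjoint.
-/

set_option autoImplicit false

namespace H62
namespace Th

/-- a vector and its images under the powers of a matrix -/
noncomputable def powsV (rs : List ℕ) : ℕ → ℕ → List ℕ :=
  Nat.rec (motive := fun _ => ℕ → List ℕ) (fun _ => [])
    (fun _ ih c => c :: fz (mulS c rs) ih)

/-- images under products of powers below `p` of the listed matrices -/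
noncomputable def spreadV (r : ℕ → List ℕ) (p : ℕ) (idxs : List ℕ) : List ℕ → List ℕ :=
  List.rec (motive := fun _ => List ℕ → List ℕ) (fun cs => cs)
    (fun j _ ih cs => ih (cs.flatMap fun c => powsV (r j) p c)) idxs

/-- the images of a row separate a member from the subgroup of the earlier ones -/
noncomputable def sepV (r : ℕ → List ℕ) (p v m k : ℕ) : Bool :=
  fz (mulS v (r (m + k))) fun w => (spreadV r p (List.range' 0 m) [v]).all fun a =>
    (spreadV r p (List.range' m k).reverse [w]).all fun b => !Nat.beq a b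

theorem powsV_mem {rs : List ℕ} {M : Mat} (hM : RepL rs M) : ∀ (p e : ℕ), e < p →
    ∀ {c : ℕ} {V : Mat}, Rep c V → ∃ d ∈ powsV rs p c, Rep d (V * M ^ e)
  | p + 1, 0, _, c, V, hc => ⟨c, by simp [powsV], by simpa using hc⟩
  | p + 1, e + 1, he, c, V, hc => by
    have h2 : Rep (mulS c rs) (V * M) := by rw [mulS_eq]; exact mulL_rep hc hM
    obtain ⟨d, hd, hR⟩ := powsV_mem hM p e (by omega) h2
    refine ⟨d, ?_, by rwa [pow_succ', ← mul_assoc]⟩
    show d ∈ c :: fz (mulS c rs) (powsV rs p)
    rw [fz_eq]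
    exact List.mem_cons_of_mem _ hd

theorem spreadV_mem {r : ℕ → List ℕ} {M : ℕ → Mat} {p : ℕ} : ∀ (idxs es : List ℕ),
    (∀ j ∈ idxs, RepL (r j) (M j)) → es.length = idxs.length → (∀ e ∈ es, e < p) →
    ∀ {cs : List ℕ} {c : ℕ} {V : Mat}, c ∈ cs → Rep c V →
      ∃ d ∈ spreadV r p idxs cs, Rep d (V * ((idxs.zip es).map fun q => M q.1 ^ q.2).prod)
  | [], _, _, _, _, cs, c, V, hc, hV => ⟨c, hc, by simpa using hV⟩
  | j :: idxs, [], _, h, _, _, _, _, _, _ => by simp at h
  | j :: idxs, e :: es, hr, hlen, hes, cs, c, V, hc, hV => by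
    obtain ⟨d, hd, hd2⟩ := powsV_mem (hr j List.mem_cons_self) p e (hes e List.mem_cons_self) hV
    obtain ⟨f, hf, hf2⟩ := spreadV_mem (p := p) idxs es (fun a ha => hr a (List.mem_cons_of_mem _ ha))
      (by simpa using hlen) (fun a ha => hes a (List.mem_cons_of_mem _ ha))
      (cs := cs.flatMap fun c => powsV (r j) p c)
      (List.mem_flatMap.2 ⟨c, hc, hd⟩) hd2
    refine ⟨f, hf, ?_⟩
    rwa [List.zip_cons_cons, List.map_cons, List.prod_cons, ← mul_assoc]

theorem units_prod_val {x : ℕ → Matˣ} {M : ℕ → Mat} (l : List (ℕ × ℕ))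
    (h : ∀ q ∈ l, ((x q.1 : Matˣ) : Mat) = M q.1) :
    (((l.map fun q => x q.1 ^ q.2).prod : Matˣ) : Mat) = (l.map fun q => M q.1 ^ q.2).prod := by
  induction l with
  | nil => simp
  | cons a l ih =>
    rw [List.map_cons, List.prod_cons, List.map_cons, List.prod_cons, Units.val_mul,
      Units.val_pow_eq_pow_val, h a List.mem_cons_self,
      ih fun q hq => h q (List.mem_cons_of_mem _ hq)]

theorem not_mem_of_sepV {x : ℕ → Matˣ} {M : ℕ → Mat} {r : ℕ → List ℕ} {p v m k : ℕ} (hp : 0 < p)
    (hx : ∀ j ≤ m + k, ((x j : Matˣ) : Mat) = M j) (hr : ∀ j ≤ m + k, RepL (r j) (M j))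
    (hv : okCode v = true)
    (hstep : ∀ i < m + k, x i ^ p ∈ pcSub x i ∧ ∀ j < i, (x i)⁻¹ * x j * x i ∈ pcSub x i)
    (h : sepV r p v m k = true) : x (m + k) ∉ pcSub x (m + k) := by
  intro hmem
  obtain ⟨g, hg, es, hlen, hes, heq⟩ := mem_descend hp m k hstep (inv_mem hmem)
  obtain ⟨fs, hlen', hfs, heq'⟩ :=
    mem_ascend hp m (fun i hi => hstep i (by omega)) (inv_mem hg)
  have hR := rep_matOf hv
  have hidx : ∀ j ∈ (List.range' m k).reverse, j ≤ m + k := by
    intro j hj
    rw [List.mem_reverse, List.mem_range'_1] at hj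
    omega
  have hidx' : ∀ j ∈ List.range' 0 m, j ≤ m + k := by
    intro j hj
    rw [List.mem_range'_1] at hj
    omega
  have hw : Rep (mulS v (r (m + k))) (matOf v * M (m + k)) := by
    rw [mulS_eq]; exact mulL_rep hR (hr _ le_rfl)
  obtain ⟨a, ha, ha2⟩ := spreadV_mem (p := p) (List.range' 0 m) fs (fun j hj => hr j (hidx' j hj))
    (by simp [hlen']) hfs (cs := [v]) List.mem_cons_self hR
  obtain ⟨b, hb, hb2⟩ := spreadV_mem (p := p) (List.range' m k).reverse es
    (fun j hj => hr j (hidx j hj)) (by simp [hlen]) hes (cs := [_]) List.mem_cons_self hw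
  have hgm : x (m + k) * (((List.range' m k).reverse.zip es).map fun q => x q.1 ^ q.2).prod =
      (((List.range' 0 m).zip fs).map fun q => x q.1 ^ q.2).prod := by
    rw [← heq', eq_inv_iff_mul_eq_one, mul_assoc, ← heq, mul_inv_cancel]
  have hval := congrArg Units.val hgm
  rw [Units.val_mul, hx _ le_rfl, units_prod_val _ fun q hq => hx _ (hidx _ (List.of_mem_zip hq).1),
    units_prod_val _ fun q hq => hx _ (hidx' _ (List.of_mem_zip hq).1)] at hval
  rw [mul_assoc, hval] at hb2
  have e := rep_code_unique ha2 hb2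
  simp only [sepV, fz_eq, List.all_eq_true] at h
  have := h a ha b hb
  simp [e] at this

end Th
end H62
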