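import Mathlib
import Cfsg.Agent.H62.Th.Rho
import Cfsg.Agent.H62.Th.Sep

/-!
Listed matrices given by words in the generators and in the matrices before them lie in the image;
chains of them bound the order of the image from below.
-/

set_option autoImplicit false
set_option maxRecDepth 4000

namespace H62
namespace Th

open Cfsg.Spor

/-- the generators followed by the listed matrices -/
noncomputable def rowsA (L : ℕ → List ℕ) (n : ℕ) : List ℕ :=
  cond (Nat.blt n 8) (rows n) (L (n - 8))

/-- their matrices -/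
noncomputable def mtxA (L : ℕ → List ℕ) (n : ℕ) : Mat :=
  cond (Nat.blt n 8) (mtx n) (matOf (asm (L (n - 8))))

/-- a listed matrix is a matrix -/
noncomputable def checkLit (L : ℕ → List ℕ) (i : ℕ) : Bool := okRows (L i) && okCode (asm (L i))

/-- its word uses earlier letters only -/
def checkEarlier (W : ℕ → List ℕ) (i : ℕ) : Bool := (W i).all fun g => Nat.blt g (8 + i)

/-- the hypotheses on a list of matrices -/
structure LitOK (L : ℕ → List ℕ) (W : ℕ → List ℕ) (N : ℕ) : Prop where
  lit : ∀ i < N, checkLit L i = true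
  earlier : ∀ i < N, checkEarlier W i = true
  word : ∀ i < N, ∀ b < 8, sameB (rowsA L) b (W i) [8 + i] = true

variable {L : ℕ → List ℕ} {W : ℕ → List ℕ} {N : ℕ}

theorem repL_mtxA (h : LitOK L W N) {n : ℕ} (hn : n < 8 + N) : RepL (rowsA L n) (mtxA L n) := by
  unfold rowsA mtxA
  cases hb : Nat.blt n 8
  · have h8 : ¬ n < 8 := fun h8 => by
      have := Nat.ble_eq_true_of_le (show n + 1 ≤ 8 by omega)
      rw [Nat.blt, Nat.succ_eq_add_one] at hb
      simp_all
    have hl := h.lit (n - 8) (by omega)
    simp only [checkLit, Bool.and_eq_true] at hl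
    exact repL_of_check hl.1 hl.2
  · exact repL_mtx (Nat.le_of_ble_eq_true hb)

/-- the matrix is the value of an element -/
def InR (M : Mat) : Prop := ∃ g : Cfsg.Spor.Th, ((rho g : Matˣ) : Mat) = M

theorem inR_prod : ∀ (l : List Mat), (∀ M ∈ l, InR M) → InR l.prod
  | [], _ => ⟨1, by simp⟩
  | M :: l, h => by
    obtain ⟨g, hg⟩ := h M List.mem_cons_self
    obtain ⟨k, hk⟩ := inR_prod l fun X hX => h X (List.mem_cons_of_mem _ hX)
    exact ⟨g * k, by rw [map_mul, Units.val_mul, hg, hk, List.prod_cons]⟩

theorem inR_mtxA (h : LitOK L W N) : ∀ n : ℕ, n < 8 + N → InR (mtxA L n) := by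
  intro n
  induction n using Nat.strong_induction_on with
  | _ n ih =>
    intro hn
    by_cases h8 : n < 8
    · obtain ⟨g, rfl⟩ : ∃ g : Th.Gen, idx g = n := by
        interval_cases n
        exacts [⟨.a, rfl⟩, ⟨.b, rfl⟩, ⟨.c, rfl⟩, ⟨.d, rfl⟩, ⟨.e, rfl⟩, ⟨.s, rfl⟩, ⟨.t, rfl⟩, ⟨.u, rfl⟩]
      refine ⟨PresentedGroup.of g, ?_⟩
      rw [rho_val, mtxA, show Nat.blt (idx g) 8 = true from Nat.ble_eq_true_of_le h8]
      rfl
    · obtain ⟨i, rfl⟩ : ∃ i, n = 8 + i := ⟨n - 8, by omega⟩
      have he := h.earlier i (by omega)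
      simp only [checkEarlier, List.all_eq_true] at he
      have hlt : ∀ g ∈ W i, g < 8 + i := fun g hg => Nat.le_of_ble_eq_true (he g hg)
      have hs := sameB_spec (rowsOf := rowsA L) (m := mtxA L) (fun b hb => h.word i (by omega) b hb)
        (fun g hg => repL_mtxA h (lt_trans (hlt g hg) (by omega)))
        (fun g hg => by rw [List.mem_singleton] at hg; exact repL_mtxA h (by omega))
      rw [List.map_singleton, List.prod_singleton] at hs
      rw [← hs]
      refine inR_prod _ fun M hM => ?_
      obtain ⟨g, hg, rfl⟩ := List.mem_map.1 hM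
      exact ih g (hlt g hg) (lt_trans (hlt g hg) hn)

open Classical in
/-- the element of the image with the listed matrix, or one -/
noncomputable def elA (L : ℕ → List ℕ) (n : ℕ) : Matˣ :=
  if h : InR (mtxA L n) then rho h.choose else 1

theorem elA_val (h : LitOK L W N) {n : ℕ} (hn : n < 8 + N) :
    ((elA L n : Matˣ) : Mat) = mtxA L n := by
  rw [elA, dif_pos (inR_mtxA h n hn)]
  exact (inR_mtxA h n hn).choose_spec

theorem elA_mem (L : ℕ → List ℕ) (n : ℕ) : elA L n ∈ rho.range := by
  unfold elA
  split
  · exact ⟨_, rfl⟩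
  · exact one_mem _

/-- the data of a chain of matrices: places, words for conjugates and for powers, a row and a
place to cut for each member -/
structure Chain where
  p : ℕ
  n : ℕ
  at' : ℕ → ℕ
  conjW : ℕ → ℕ → List ℕ
  powW : ℕ → List ℕ
  row : ℕ
  cut : ℕ → ℕ

/-- the rows of the members of a chain -/
noncomputable def Chain.rowsC (C : Chain) (L : ℕ → List ℕ) (i : ℕ) : List ℕ := rowsA L (C.at' i)

/-- the conjugate of a member under a later one, on a block -/
noncomputable def Chain.checkConj (C : Chain) (L : ℕ → List ℕ) (i j b : ℕ) : Bool :=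
  sameB (C.rowsC L) b [j, i] (i :: C.conjW i j)

/-- the power of a member, on a block -/
noncomputable def Chain.checkPow (C : Chain) (L : ℕ → List ℕ) (i b : ℕ) : Bool :=
  sameB (C.rowsC L) b (List.replicate C.p i) (C.powW i)

/-- the bounds on the indices in the words -/
def Chain.checkIdx (C : Chain) (N : ℕ) : Bool :=
  (List.range C.n).all fun i => Nat.blt (C.at' i) (8 + N) && (Nat.ble (C.cut i) i &&
    ((C.powW i).all (fun g => Nat.blt g i) &&
      (List.range i).all fun j => (C.conjW i j).all fun g => Nat.blt g i))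

/-- separation of a member from the earlier ones -/
noncomputable def Chain.checkSep (C : Chain) (L : ℕ → List ℕ) (i : ℕ) : Bool :=
  sepV (C.rowsC L) C.p C.row (C.cut i) (i - C.cut i)

theorem Chain.dvd_card (C : Chain) (h : LitOK L W N) (hp : C.p.Prime)
    (hidx : C.checkIdx N = true) (hrow : okCode C.row = true)
    (hconj : ∀ i < C.n, ∀ j < i, ∀ b < 8, C.checkConj L i j b = true)
    (hpow : ∀ i < C.n, ∀ b < 8, C.checkPow L i b = true)
    (hsep : ∀ i < C.n, C.checkSep L i = true) :
    C.p ^ C.n ∣ Nat.card rho.range := by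
  set x : ℕ → Matˣ := fun i => elA L (C.at' i) with hx
  simp only [Chain.checkIdx, List.all_eq_true, List.mem_range, Bool.and_eq_true] at hidx
  have hat : ∀ i < C.n, C.at' i < 8 + N := fun i hi => Nat.le_of_ble_eq_true (hidx i hi).1
  have hR : ∀ i < C.n, RepL (C.rowsC L i) (mtxA L (C.at' i)) := fun i hi => repL_mtxA h (hat i hi)
  have hval : ∀ i < C.n, ((x i : Matˣ) : Mat) = mtxA L (C.at' i) := fun i hi =>
    elA_val h (hat i hi)
  have word_val : ∀ l : List ℕ, (∀ g ∈ l, g < C.n) →
      (l.map fun g => mtxA L (C.at' g)).prod = (((l.map x).prod : Matˣ) : Mat) := by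
    intro l hl
    induction l with
    | nil => simp
    | cons a l ih =>
      rw [List.map_cons, List.prod_cons, List.map_cons, List.prod_cons, Units.val_mul,
        hval a (hl a List.mem_cons_self), ih fun g hg => hl g (List.mem_cons_of_mem _ hg)]
  have hmem : ∀ {i : ℕ} {l : List ℕ}, (∀ g ∈ l, g < i) → (l.map x).prod ∈ pcSub x i := by
    intro i l hl
    refine Subgroup.list_prod_mem _ fun y hy => ?_
    obtain ⟨g, hg, rfl⟩ := List.mem_map.1 hy
    exact mem_pcSub (hl g hg)
  have hstep : ∀ i < C.n, x i ^ C.p ∈ pcSub x i ∧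
      ∀ j < i, (x i)⁻¹ * x j * x i ∈ pcSub x i := by
    intro i hi
    obtain ⟨-, -, hw, hc⟩ := hidx i hi
    have hw' : ∀ g ∈ C.powW i, g < i := fun g hg => Nat.le_of_ble_eq_true (hw g hg)
    refine ⟨?_, fun j hj => ?_⟩
    · have e := sameB_spec (rowsOf := C.rowsC L) (m := fun g => mtxA L (C.at' g))
        (fun b hb => hpow i hi b hb) (fun g hg => by rw [List.eq_of_mem_replicate hg]; exact hR i hi)
        (fun g hg => hR g ((hw' g hg).trans hi))
      rw [word_val _ fun g hg => by rw [List.eq_of_mem_replicate hg]; exact hi,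
        word_val _ fun g hg => (hw' g hg).trans hi] at e
      have e' := Units.ext e
      rw [List.map_replicate, List.prod_replicate] at e'
      rw [e']
      exact hmem hw'
    · have hc' : ∀ g ∈ C.conjW i j, g < i := fun g hg => Nat.le_of_ble_eq_true (hc j hj g hg)
      have b1 : ∀ g ∈ [j, i], g < C.n := fun g hg => by
        simp only [List.mem_cons, List.not_mem_nil, or_false] at hg
        omega
      have b2 : ∀ g ∈ i :: C.conjW i j, g < C.n := fun g hg => by
        rcases List.mem_cons.1 hg with rfl | hg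
        · exact hi
        · exact (hc' g hg).trans hi
      have e := sameB_spec (rowsOf := C.rowsC L) (m := fun g => mtxA L (C.at' g))
        (fun b hb => hconj i hi j hj b hb) (fun g hg => hR g (b1 g hg)) (fun g hg => hR g (b2 g hg))
      rw [word_val _ b1, word_val _ b2] at e
      have e' := Units.ext e
      simp only [List.map_cons, List.map_nil, List.prod_cons, List.prod_nil, mul_one] at e'
      rw [mul_assoc, e', inv_mul_cancel_left]
      exact hmem hc'
  have hcard : Nat.card (pcSub x C.n) = C.p ^ C.n := by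
    refine card_pcSub hp C.n fun i hi => ⟨(hstep i hi).1, (hstep i hi).2, ?_⟩
    have hcut : C.cut i ≤ i := Nat.le_of_ble_eq_true (hidx i hi).2.1
    obtain ⟨k, hk⟩ := Nat.exists_eq_add_of_le hcut
    have hs := hsep i hi
    rw [Chain.checkSep, show i - C.cut i = k by omega] at hs
    have := not_mem_of_sepV (x := x) (M := fun j => mtxA L (C.at' j)) (r := C.rowsC L) hp.pos
      (fun j hj => hval j (by omega)) (fun j hj => hR j (by omega)) hrow
      (fun j hj => hstep j (by omega)) hs
    rwa [← hk] at this
  rw [← hcard]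
  refine Subgroup.card_dvd_of_le ?_
  rw [pcSub, Subgroup.closure_le]
  rintro _ ⟨j, -, rfl⟩
  exact elA_mem L _

end Th
end H62
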